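import Mathlib
import Cfsg.Prelude.Def_LieTypeDatum
import Cfsg.Prelude.Def_CaseTheorems
import Cfsg.Agent.Lib.Components.PPrimeCore

/-!
# Cores of centralisers in almost simple groups

For `φ` in a group `A` of automorphisms containing the inner ones: the core of `C_A(φ)` of order prime to
`p` is trivial once that of the fixed points is and the pointwise stabiliser of the fixed points is small.
-/

set_option autoImplicit false
set_option linter.unusedSectionVars false

namespace Cfsg.Agent.LocalBal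

universe u v

variable {K : Type u} [Group K]

/-- The fixed points. -/
abbrev Fix (φ : MulAut K) : Subgroup K := MonoidHom.eqLocus φ.toMonoidHom (MonoidHom.id K)

theorem mem_Fix {φ : MulAut K} {k : K} : k ∈ Fix φ ↔ φ k = k := Iff.rfl

theorem aut_conj (d : MulAut K) (k : K) : d * MulAut.conj k * d⁻¹ = MulAut.conj (d k) :=
  MulEquiv.ext fun z => by simp [MulAut.mul_apply, MulAut.conj_apply]

theorem commute_conj {φ : MulAut K} {k : K} (h : φ k = k) : Commute (MulAut.conj k) φ := by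
  have e := aut_conj φ k
  rw [h] at e
  exact (mul_inv_eq_iff_eq_mul.1 e).symm

theorem fix_of_commute (hinj : Function.Injective (MulAut.conj : K →* MulAut K)) {φ : MulAut K} {k : K}
    (h : Commute (MulAut.conj k) φ) : φ k = k :=
  hinj (by rw [← aut_conj, h.symm.eq, mul_inv_cancel_right])

/-- An automorphism commuting with `φ` acts on its fixed points. -/
def restrictFix (d φ : MulAut K) (h : Commute d φ) : MulAut (Fix φ) where
  toFun k := ⟨d k.1, by
    show φ (d k.1) = d k.1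
    rw [← MulAut.mul_apply, ← h.eq, MulAut.mul_apply, show φ k.1 = k.1 from k.2]⟩
  invFun k := ⟨d⁻¹ k.1, by
    show φ (d⁻¹ k.1) = d⁻¹ k.1
    rw [← MulAut.mul_apply, ← h.inv_left.eq, MulAut.mul_apply, show φ k.1 = k.1 from k.2]⟩
  left_inv k := Subtype.ext (MulAut.inv_apply_self K d k.1)
  right_inv k := Subtype.ext (MulAut.apply_inv_self K d k.1)
  map_mul' a b := Subtype.ext (map_mul d a.1 b.1)

theorem restrictFix_apply (d φ : MulAut K) (h : Commute d φ) (k : Fix φ) :
    (restrictFix d φ h k : K) = d k.1 := rfl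

/-- The inner automorphisms of the fixed points inside the centraliser. -/
def innFix (A : Subgroup (MulAut K)) (hinn : ∀ k, MulAut.conj k ∈ A) (φ : MulAut K) :
    Fix φ →* ↥(A ⊓ Subgroup.centralizer {φ}) :=
  ((MulAut.conj : K →* MulAut K).comp (Fix φ).subtype).codRestrict _ fun k =>
    ⟨hinn _, Subgroup.mem_centralizer_singleton_iff.2 (commute_conj k.2).eq⟩

variable (A : Subgroup (MulAut K)) (hinn : ∀ k, MulAut.conj k ∈ A) (φ : MulAut K)
  (hinj : Function.Injective (MulAut.conj : K →* MulAut K))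

include hinj in
theorem innFix_injective : Function.Injective (innFix A hinn φ) := fun _ _ h =>
  Subtype.ext (hinj (congrArg Subtype.val h))

theorem innFix_conj (d : ↥(A ⊓ Subgroup.centralizer {φ})) (k : Fix φ) :
    d * innFix A hinn φ k * d⁻¹ =
      innFix A hinn φ (restrictFix d.1 φ (Subgroup.mem_centralizer_singleton_iff.1 d.2.2) k) :=
  Subtype.ext (aut_conj d.1 k.1)

include hinn hinj in
/-- The core of the centraliser is trivial. -/
theorem core_eq_bot [Finite K] (p : ℕ) [Fact p.Prime]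
    (hR : Cfsg.pPrimeCore p ↥(Fix φ) = ⊥)
    (hstab : ∀ d : MulAut K, Commute d φ → (∀ k, φ k = k → d k = k) → d ^ p = 1) :
    Cfsg.pPrimeCore p ↥(A ⊓ Subgroup.centralizer {φ}) = ⊥ := by
  refine (eq_bot_iff (α := Subgroup ↥(A ⊓ Subgroup.centralizer {φ}))).2 (sSup_le ?_)
  rintro D ⟨hDn, hDp⟩
  haveI := hDn
  set ι := innFix A hinn φ
  have hι : Function.Injective ι := innFix_injective A hinn φ hinj
  have hR' : D.comap ι = ⊥ := by
    refine eq_bot_iff.2 (le_trans (le_sSup ?_) hR.le)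
    refine ⟨Subgroup.Normal.comap hDn ι, ?_⟩
    exact Nat.Coprime.coprime_dvd_left (Subgroup.card_comap_dvd_of_injective D ι hι) hDp
  intro d hd
  have hc : Commute d.1 φ := Subgroup.mem_centralizer_singleton_iff.1 d.2.2
  have hfix : ∀ k, φ k = k → d.1 k = k := by
    intro k hk
    have hmem : ι (restrictFix d.1 φ hc ⟨k, hk⟩ * (⟨k, hk⟩ : Fix φ)⁻¹) ∈ D := by
      rw [map_mul, map_inv, ← innFix_conj A hinn φ d, mul_assoc d, mul_assoc d]
      exact mul_mem hd (hDn.conj_mem _ (inv_mem hd) _)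
    have h1 : restrictFix d.1 φ hc ⟨k, hk⟩ * (⟨k, hk⟩ : Fix φ)⁻¹ ∈ D.comap ι := hmem
    rw [hR', Subgroup.mem_bot, mul_inv_eq_one] at h1
    exact congrArg Subtype.val h1
  have hp : (⟨d, hd⟩ : D) ^ p = 1 := Subtype.ext (Subtype.ext (hstab d.1 hc hfix))
  have h1 : orderOf (⟨d, hd⟩ : D) ∣ p := orderOf_dvd_of_pow_eq_one hp
  exact Subgroup.mem_bot.2 (congrArg Subtype.val (orderOf_eq_one_iff.1
    (Nat.eq_one_of_dvd_coprimes hDp (orderOf_dvd_natCard _) h1)))

include hinn hinj in
/-- The core of the centraliser contains the fixed points if their order is prime to `p`. -/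
theorem core_ne_bot [Finite K] (p : ℕ) (hne : Fix φ ≠ ⊥) (hco : Nat.Coprime p (Nat.card ↥(Fix φ))) :
    Cfsg.pPrimeCore p ↥(A ⊓ Subgroup.centralizer {φ}) ≠ ⊥ := by
  set ι := innFix A hinn φ
  have hι : Function.Injective ι := innFix_injective A hinn φ hinj
  intro hbot
  have hN : ι.range.Normal := ⟨by
    rintro _ ⟨k, rfl⟩ d
    exact ⟨_, (innFix_conj A hinn φ d k).symm⟩⟩
  have hle : ι.range ≤ Cfsg.pPrimeCore p ↥(A ⊓ Subgroup.centralizer {φ}) := le_sSup ⟨hN, by
    rw [← Nat.card_congr (MonoidHom.ofInjective hι).toEquiv]; exact hco.symm⟩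
  rw [hbot] at hle
  refine hne (eq_bot_iff.2 fun k hk => ?_)
  have h1 : ι ⟨k, hk⟩ = 1 := Subgroup.mem_bot.1 (hle ⟨_, rfl⟩)
  exact Subgroup.mem_bot.2 (congrArg Subtype.val (hι (h1.trans (map_one ι).symm)))

/-- The core of the fixed points from a normal subgroup with trivial centraliser. -/
theorem core_fix_eq_bot [Finite K] (p : ℕ) {L : Type v} [Group L] (j : L →* K) (hj : Function.Injective j)
    (hfix : ∀ l, φ (j l) = j l)
    (hnormal : ∀ k, φ k = k → ∀ l, ∃ l', k * j l * k⁻¹ = j l')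
    (hK₀ : ∀ k, φ k = k → (∀ l, k * j l = j l * k) → k = 1)
    (hL : ∀ N : Subgroup L, N.Normal → (Nat.card N).Coprime p → N = ⊥) :
    Cfsg.pPrimeCore p ↥(Fix φ) = ⊥ := by
  refine (eq_bot_iff (α := Subgroup ↥(Fix φ))).2 (sSup_le ?_)
  rintro N ⟨hNn, hNp⟩
  let L₀ : L →* Fix φ := j.codRestrict (Fix φ) hfix
  have hL₀ : Function.Injective L₀ := fun a b h => hj (congrArg Subtype.val h)
  have h1 : N.comap L₀ = ⊥ := hL _ (Subgroup.Normal.comap hNn L₀)
    (Nat.Coprime.coprime_dvd_left (Subgroup.card_comap_dvd_of_injective N L₀ hL₀) hNp)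
  intro k hk
  refine Subgroup.mem_bot.2 (Subtype.ext (hK₀ k.1 k.2 fun l => ?_))
  obtain ⟨l', hl'⟩ := hnormal k.1 k.2 l
  have hmem : L₀ (l' * l⁻¹) ∈ N := by
    rw [map_mul, map_inv, show L₀ l' = k * L₀ l * k⁻¹ from Subtype.ext hl'.symm, mul_assoc k, mul_assoc k]
    exact mul_mem hk (hNn.conj_mem _ (inv_mem hk) _)
  have h2 : l' * l⁻¹ ∈ N.comap L₀ := hmem
  rw [h1, Subgroup.mem_bot, mul_inv_eq_one] at h2
  rw [h2] at hl'
  exact mul_inv_eq_iff_eq_mul.1 hl'

/-- A simple group of order divisible by `p` has no normal subgroup of order prime to `p`. -/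
theorem simple_hL {L : Type v} [Group L] [IsSimpleGroup L] (p : ℕ) [hp : Fact p.Prime] (hdvd : p ∣ Nat.card L)
    (N : Subgroup L) (hN : N.Normal) (hco : (Nat.card N).Coprime p) : N = ⊥ := by
  refine (IsSimpleGroup.eq_bot_or_eq_top_of_normal N hN).resolve_right fun h => ?_
  rw [h, Subgroup.card_top] at hco
  exact (hp.out.coprime_iff_not_dvd.1 hco.symm) hdvd

theorem card_fix_conj (c : MulAut K) : Nat.card ↥(Fix (c * φ * c⁻¹)) = Nat.card ↥(Fix φ) := by
  refine (Nat.card_congr (Equiv.subtypeEquiv c.toEquiv fun k => ?_)).symm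
  rw [mem_Fix, mem_Fix]
  show φ k = k ↔ (c * φ * c⁻¹) (c k) = c k
  simp [MulAut.mul_apply]

include hinn in
theorem conj_mem_map (c : MulAut K) (k : K) : MulAut.conj k ∈ A.map (MulAut.conj c).toMonoidHom :=
  ⟨MulAut.conj (c⁻¹ k), hinn _, by
    show c * MulAut.conj (c⁻¹ k) * c⁻¹ = _
    rw [aut_conj, MulAut.apply_inv_self]⟩

/-- Conjugating the data does not change whether the core is trivial. -/
theorem core_bot_conj (p : ℕ) (c : MulAut K) :
    Cfsg.pPrimeCore p ↥(A ⊓ Subgroup.centralizer {φ}) = ⊥ ↔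
      Cfsg.pPrimeCore p ↥(A.map (MulAut.conj c).toMonoidHom ⊓ Subgroup.centralizer {c * φ * c⁻¹}) = ⊥ := by
  have e : (A ⊓ Subgroup.centralizer {φ}).map (MulAut.conj c).toMonoidHom =
      A.map (MulAut.conj c).toMonoidHom ⊓ Subgroup.centralizer {c * φ * c⁻¹} := by
    ext x
    simp only [Subgroup.mem_map, Subgroup.mem_inf, Subgroup.mem_centralizer_singleton_iff,
      MulEquiv.coe_toMonoidHom, MulAut.conj_apply]
    constructor
    · rintro ⟨y, ⟨hy, hc⟩, rfl⟩
      refine ⟨⟨y, hy, rfl⟩, ?_⟩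
      calc c * y * c⁻¹ * (c * φ * c⁻¹) = c * (y * φ) * c⁻¹ := by group
        _ = c * (φ * y) * c⁻¹ := by rw [hc]
        _ = _ := by group
    · rintro ⟨⟨y, hy, rfl⟩, hc⟩
      refine ⟨y, ⟨hy, ?_⟩, rfl⟩
      calc y * φ = c⁻¹ * (c * y * c⁻¹ * (c * φ * c⁻¹)) * c := by group
        _ = c⁻¹ * (c * φ * c⁻¹ * (c * y * c⁻¹)) * c := by rw [hc]
        _ = _ := by group
  let f : ↥(A ⊓ Subgroup.centralizer {φ}) ≃*
      ↥(A.map (MulAut.conj c).toMonoidHom ⊓ Subgroup.centralizer {c * φ * c⁻¹}) :=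
    ((A ⊓ Subgroup.centralizer {φ}).equivMapOfInjective _ (MulAut.conj c).injective).trans
      (MulEquiv.subgroupCongr e)
  have h := Components.map_pPrimeCore_equiv (p := p) f
  constructor
  · intro hb
    rw [← h, hb, Subgroup.map_bot]
  · intro hb
    rw [hb, Subgroup.map_eq_bot_iff_of_injective _ f.injective] at h
    exact h

end Cfsg.Agent.LocalBal
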