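import Mathlib
import Cfsg.Agent.Lib.LocalBal.Core

/-!
# Cores of centralisers of involutions: general tools
-/

set_option autoImplicit false
set_option linter.unusedSectionVars false
set_option linter.style.haveILetI false

namespace Cfsg.Agent.LocalBal

universe u v

variable {K : Type u} [Group K] [Finite K]

/-- The core of the centraliser is trivial if the stabiliser of the fixed points is a `p`-group. -/
theorem core_eq_bot_pow (A : Subgroup (MulAut K)) (hinn : ∀ k, MulAut.conj k ∈ A) (φ : MulAut K)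
    (hinj : Function.Injective (MulAut.conj : K →* MulAut K)) (p e : ℕ) [Fact p.Prime]
    (hR : Cfsg.pPrimeCore p ↥(Fix φ) = ⊥)
    (hstab : ∀ d : MulAut K, Commute d φ → (∀ k, φ k = k → d k = k) → d ^ p ^ e = 1) :
    Cfsg.pPrimeCore p ↥(A ⊓ Subgroup.centralizer {φ}) = ⊥ := by
  refine (eq_bot_iff (α := Subgroup ↥(A ⊓ Subgroup.centralizer {φ}))).2 (sSup_le ?_)
  rintro D ⟨hDn, hDp⟩
  haveI := hDn
  set ι := innFix A hinn φ
  have hι : Function.Injective ι := innFix_injective A hinn φ hinj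
  have hR' : D.comap ι = ⊥ := by
    refine eq_bot_iff.2 (le_trans (le_sSup ?_) hR.le)
    refine ⟨Subgroup.Normal.comap hDn ι, ?_⟩
    exact Nat.Coprime.coprime_dvd_left (Subgroup.card_comap_dvd_of_injective D ι hι) hDp
  intro d hd
  have hc : Commute d.1 φ := Subgroup.mem_centralizer_singleton_iff.1 d.2.2
  have hfix : ∀ k, φ k = k → d.1 k = k := by
    intro k hk
    have hmem : ι (restrictFix d.1 φ hc ⟨k, hk⟩ * (⟨k, hk⟩ : Fix φ)⁻¹) ∈ D := by
      rw [map_mul, map_inv, ← innFix_conj A hinn φ d, mul_assoc d, mul_assoc d]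
      exact mul_mem hd (hDn.conj_mem _ (inv_mem hd) _)
    have h1 : restrictFix d.1 φ hc ⟨k, hk⟩ * (⟨k, hk⟩ : Fix φ)⁻¹ ∈ D.comap ι := hmem
    rw [hR', Subgroup.mem_bot, mul_inv_eq_one] at h1
    exact congrArg Subtype.val h1
  have hp : (⟨d, hd⟩ : D) ^ p ^ e = 1 := Subtype.ext (Subtype.ext (hstab d.1 hc hfix))
  have h1 : orderOf (⟨d, hd⟩ : D) ∣ p ^ e := orderOf_dvd_of_pow_eq_one hp
  exact Subgroup.mem_bot.2 (congrArg Subtype.val (orderOf_eq_one_iff.1
    (Nat.eq_one_of_dvd_coprimes (hDp.pow_right e) (orderOf_dvd_natCard _) h1)))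

/-- An involution of a non-commutative group fixes a non-trivial point. -/
theorem fix_ne_bot (φ : MulAut K) (h2 : φ * φ = 1) (hK : ∃ a b : K, a * b ≠ b * a) : Fix φ ≠ ⊥ := by
  intro hbot
  have hfpf : MonoidHom.FixedPointFree φ := fun g hg => by
    have : g ∈ Fix φ := hg
    rwa [hbot, Subgroup.mem_bot] at this
  obtain ⟨a, b, hab⟩ := hK
  exact hab (hfpf.commute_all_of_involutive (fun g => DFunLike.congr_fun h2 g) a b)

/-- The order of the fixed points is even if their core is trivial. -/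
theorem not_coprime_fix (φ : MulAut K) (hR : Cfsg.pPrimeCore 2 ↥(Fix φ) = ⊥) (hne : Fix φ ≠ ⊥) :
    ¬ Nat.Coprime 2 (Nat.card ↥(Fix φ)) := by
  intro hco
  have h := Components.le_pPrimeCore (p := 2) (N := (⊤ : Subgroup ↥(Fix φ))) inferInstance
    (by rw [Subgroup.card_top]; exact hco.symm)
  rw [hR] at h
  refine hne (eq_bot_iff.2 fun k hk => ?_)
  exact Subgroup.mem_bot.2 (congrArg Subtype.val (Subgroup.mem_bot.1 (h (Subgroup.mem_top (⟨k, hk⟩ : ↥(Fix φ))))))

/-- The core of the fixed points from a group of isometries acting through them. -/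
theorem core_fix_of_lift (φ : MulAut K) (hinj : Function.Injective (MulAut.conj : K →* MulAut K))
    {G : Type v} [Group G] [Finite G] (π : G →* MulAut K) (hπ : ∀ g, Commute (π g) φ)
    (hker : ∀ g, π g = 1 → g ∈ Subgroup.center G ∧ g * g = 1)
    (hlift : ∀ k, φ k = k → ∃ g, π g = MulAut.conj (k * k))
    (hodd : ∀ N : Subgroup G, N.Normal → Odd (Nat.card N) → N = ⊥) :
    Cfsg.pPrimeCore 2 ↥(Fix φ) = ⊥ := by
  haveI : Fact (Nat.Prime 2) := ⟨Nat.prime_two⟩
  set R := Cfsg.pPrimeCore 2 ↥(Fix φ)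
  have hRodd : Odd (Nat.card R) := Nat.odd_iff.2 (Nat.two_dvd_ne_zero.1 Components.pPrimeCore_not_dvd)
  let CR : Subgroup (MulAut K) := R.map ((MulAut.conj : K →* MulAut K).comp (Fix φ).subtype)
  have hCR : Odd (Nat.card CR) := hRodd.of_dvd_nat (Subgroup.card_map_dvd _ _)
  let S : Subgroup G := CR.comap π
  haveI hSn : S.Normal := ⟨fun g hg w => by
    obtain ⟨k, hk, e⟩ := hg
    refine ⟨restrictFix (π w) φ (hπ w) k, ?_, ?_⟩
    · rw [← show R.map _ = R from Components.map_pPrimeCore_equiv (p := 2) (restrictFix (π w) φ (hπ w))]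
      exact ⟨k, hk, rfl⟩
    · rw [map_mul, map_mul, map_inv]
      show MulAut.conj (π w k.1) = _
      rw [← aut_conj, ← e]
      rfl⟩
  let πS : S →* MulAut K := π.comp S.subtype
  have hZ : πS.ker ≤ Subgroup.center S := fun g hg => Subgroup.mem_center_iff.2 fun x =>
    Subtype.ext (Subgroup.mem_center_iff.1 (hker g.1 hg).1 x.1)
  haveI : πS.ker.FiniteIndex := inferInstance
  have hidx : Odd πS.ker.index := by
    rw [Subgroup.index_ker]
    exact hCR.of_dvd_nat (Subgroup.card_dvd_of_le (by rintro _ ⟨g, rfl⟩; exact g.2))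
  letI : CommGroup (Subgroup.center S) :=
    { (inferInstance : Group (Subgroup.center S)) with
      mul_comm := fun a b => Subtype.ext (Subgroup.mem_center_iff.1 b.2 a) }
  let T : S →* Subgroup.center S := MonoidHom.transfer (Subgroup.inclusion hZ)
  have key : ∀ (g : S) (i : ℕ) (g₀ : S), g₀⁻¹ * g ^ i * g₀ ∈ πS.ker → g₀⁻¹ * g ^ i * g₀ = g ^ i := by
    intro g i g₀ hk
    have h := Subgroup.mem_center_iff.1 (hZ hk) g₀
    calc g₀⁻¹ * g ^ i * g₀ = g₀ * (g₀⁻¹ * g ^ i * g₀) * g₀⁻¹ := by rw [h, mul_inv_cancel_right]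
      _ = g ^ i := by group
  have hT : ∀ g : S, ((T g : S)) = g ^ πS.ker.index := fun g => by
    show ((MonoidHom.transfer (Subgroup.inclusion hZ) g : Subgroup.center S) : S) = _
    rw [MonoidHom.transfer_eq_pow _ g (key g)]
    rfl
  let N : Subgroup G := T.ker.map S.subtype
  have hN : ∀ g : S, (g : G) ∈ N ↔ g ^ πS.ker.index = 1 := fun g => by
    rw [← hT, OneMemClass.coe_eq_one]
    exact (Subgroup.mem_map_iff_mem (K := T.ker) (f := S.subtype) S.subtype_injective).trans MonoidHom.mem_ker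
  have hNle : N ≤ S := Subgroup.map_subtype_le _
  have hNbot : N = ⊥ := by
    refine hodd N ⟨fun g hg w => ?_⟩ ?_
    · have hgS := hNle hg
      refine (hN ⟨_, hSn.conj_mem g hgS w⟩).2 (Subtype.ext ?_)
      have := congrArg Subtype.val ((hN ⟨g, hgS⟩).1 hg)
      rw [SubmonoidClass.coe_pow] at this ⊢
      show (w * g * w⁻¹) ^ _ = 1
      rw [conj_pow, show g ^ πS.ker.index = 1 from this, mul_one, mul_inv_cancel]
    · rw [← Nat.not_even_iff_odd, even_iff_two_dvd]
      intro hdvd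
      obtain ⟨⟨g, hg⟩, ho⟩ := exists_prime_orderOf_dvd_card' (G := N) 2 hdvd
      have h0 : (⟨g, hg⟩ : N) ^ orderOf (⟨g, hg⟩ : N) = 1 := pow_orderOf_eq_one _
      rw [ho] at h0
      have h1 : (⟨g, hNle hg⟩ : S) ^ 2 = 1 := Subtype.ext (congrArg (Subtype.val (p := fun x => x ∈ N)) h0)
      have hpow := (hN ⟨g, hNle hg⟩).1 hg
      obtain ⟨i, hi⟩ := hidx
      rw [hi, pow_succ, pow_mul, h1, one_pow, one_mul] at hpow
      have h4 : (⟨g, hg⟩ : N) = 1 := Subtype.ext (congrArg Subtype.val hpow :)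
      rw [h4, orderOf_one] at ho
      exact absurd ho (by norm_num)
  refine (eq_bot_iff (α := Subgroup ↥(Fix φ))).2 fun k hk => ?_
  obtain ⟨t, ht⟩ := hlift k.1 k.2
  have htS : t ∈ S := ⟨k * k, mul_mem hk hk, ht.symm⟩
  have hz := hker _ (MonoidHom.transfer_eq_pow_aux (⟨t, htS⟩ : S) (key _))
  have ht2 : t * t = 1 := by
    have : ((⟨t, htS⟩ * ⟨t, htS⟩ : S) : G) ∈ N := by
      rw [hN, ← sq, ← pow_mul, mul_comm, pow_mul, sq]
      exact Subtype.ext hz.2
    rwa [hNbot, Subgroup.mem_bot] at this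
  have hk4 : (k : ↥(Fix φ)) ^ 2 ^ 2 = 1 := Subtype.ext (hinj (by
    rw [OneMemClass.coe_one, map_one, SubmonoidClass.coe_pow, show (2 : ℕ) ^ 2 = 2 * 2 from rfl, pow_mul, sq, sq,
      map_mul, ← ht, ← map_mul, ht2, map_one]))
  have h1 : orderOf (⟨k, hk⟩ : R) ∣ 2 ^ 2 := orderOf_dvd_of_pow_eq_one (Subtype.ext hk4)
  have h4 : Nat.Coprime (Nat.card R) (2 ^ 2) := Nat.Coprime.pow_right 2 hRodd.coprime_two_right
  exact Subgroup.mem_bot.2 (congrArg Subtype.val (orderOf_eq_one_iff.1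
    (Nat.eq_one_of_dvd_coprimes h4 (orderOf_dvd_natCard _) h1)))

end Cfsg.Agent.LocalBal
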