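import Mathlib
import Cfsg.Agent.Lib.AutPSL.Twisted
import Cfsg.Agent.Lib.LinearGroups.PSL
import Cfsg.Agent.Lib.LocalBal.Core

/-!
# Cores of centralisers of field automorphisms of `PSL_n`
-/

set_option autoImplicit false
set_option linter.unusedSectionVars false
set_option linter.style.haveILetI false

namespace Cfsg.Agent.LocalBal.PSL

open Matrix Cfsg.Agent.AutPSL

universe u

variable {F : Type u} [Field F] {n : ℕ}

local notation "SLn" => Matrix.SpecialLinearGroup (Fin n) F
local notation "PSLn" => Matrix.ProjectiveSpecialLinearGroup (Fin n) F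
local notation "Mat" => Matrix (Fin n) (Fin n) F
local notation "GLn" => GL (Fin n) F
local notation "scal" => Matrix.GeneralLinearGroup.scalar (Fin n)

theorem scalar_of_center {g : GLn} (hg : g ∈ Subgroup.center GLn) : ∃ c : Fˣ, (g : Mat) = (c : F) • 1 := by
  rw [Matrix.GeneralLinearGroup.center_eq_range_scalar] at hg
  obtain ⟨c, rfl⟩ := hg
  exact ⟨c, scalar_coe c⟩

theorem sl_pow_eq_one {R : Type*} [CommRing R] (a : Matrix.SpecialLinearGroup (Fin n) R) (k : ℕ)
    (h : (a : Matrix (Fin n) (Fin n) R) ^ k = 1) : a ^ k = 1 :=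
  Subtype.ext (by rw [Matrix.SpecialLinearGroup.coe_pow, Matrix.SpecialLinearGroup.coe_one, h])

section Inj

variable (r : ℕ) [Fact r.Prime] [CharP F r] [Finite F]
include r

theorem cj_eq_of_descend {g g' : GLn} (hn : 2 ≤ n) (h : descend (cj g) = (descend (cj g') : MulAut PSLn)) :
    cj g = (cj g' : MulAut SLn) := by
  have h1 : descend (cj (g'⁻¹ * g)) = (1 : MulAut PSLn) := by
    rw [map_mul cj, map_mul descend, map_inv, map_inv, h, inv_mul_cancel]
  have h2 := cj_eq_one_of_mem_center ((descend_cj_eq_one_iff r hn _).1 h1)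
  rwa [map_mul, map_inv, inv_mul_eq_one, eq_comm] at h2

/-- Inner automorphisms determine their elements. -/
theorem conj_injective (hn : 2 ≤ n) : Function.Injective (MulAut.conj : PSLn →* MulAut PSLn) := by
  rw [injective_iff_map_eq_one]
  intro x hx
  obtain ⟨s, rfl⟩ := proj_surjective x
  rw [← descend_conj, ← cj_toGL, descend_cj_eq_one_iff r hn] at hx
  rw [proj_eq_one_iff]
  refine Subgroup.mem_center_iff.2 fun t => Matrix.SpecialLinearGroup.toGL_injective ?_
  rw [map_mul, map_mul]
  exact Subgroup.mem_center_iff.1 hx _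

/-- An automorphism fixing the images of the transvections over a subring of scalars. -/
theorem eq_fld_of_fix_tv (hn : 2 ≤ n) (S : Set F) (hS : (1 : F) ∈ S) (d : MulAut PSLn)
    (hd : ∀ (i j : Fin n) (h : i ≠ j), ∀ a ∈ S, d (proj n F (tv i j h a)) = proj n F (tv i j h a)) :
    ∃ τ : F ≃+* F, (∀ a ∈ S, τ a = a) ∧ d = descend (fld τ) := by
  obtain ⟨g, τ, ε, hde⟩ := exists_normal_form r hn d
  obtain ⟨g, τ, ε, hde, hε⟩ : ∃ (g : GLn) (τ : F ≃+* F) (ε : Bool),
      d = descend (cj g * fld τ * gpart ε) ∧ (ε = true → 3 ≤ n) := by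
    rcases Nat.lt_or_ge n 3 with h3 | h3
    · obtain rfl : n = 2 := by omega
      cases ε with
      | false => exact ⟨g, τ, false, hde, fun h => Bool.noConfusion h⟩
      | true =>
        refine ⟨g * glMap τ (Matrix.SpecialLinearGroup.toGL (swapElt 0 1 (by decide))), τ, false, ?_,
          fun h => Bool.noConfusion h⟩
        rw [hde]
        congr 1
        simp only [gpart, if_true, Bool.false_eq_true, if_false, mul_one]
        rw [itp_eq_cj_two, mul_assoc, fld_mul_cj, map_mul cj, mul_assoc]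
        rfl
    · exact ⟨g, τ, ε, hde, fun _ => h3⟩
  have hfix : ∀ (i j : Fin n) (h : i ≠ j), ∀ a ∈ S,
      (cj g * fld τ * gpart ε : MulAut SLn) (tv i j h a) = tv i j h a := fun i j h a ha =>
    eq_of_proj_eq r (k := 1) (l := 1) (by rw [pow_one, ← map_pow, tv_pow r, map_one])
      (by rw [pow_one, tv_pow r]) (by rw [← descend_proj, ← hde, hd i j h a ha])
  have hgdet : (g : Mat).det ≠ 0 := ((Matrix.isUnit_iff_isUnit_det (g : Mat)).mp g.isUnit).ne_zero
  cases ε with
  | true =>
    exfalso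
    have h3 := hε rfl
    have h1 : ∀ (i j : Fin n) (hij : i ≠ j),
        (g : Mat) * Matrix.single j i (-1) = Matrix.single i j 1 * (g : Mat) := by
      intro i j hij
      have h1 := congrArg (fun s : SLn => (s : Mat) * (g : Mat)) (hfix i j hij 1 hS)
      simp only [gpart, if_true, MulAut.mul_apply, itp_tv, fld_tv, map_neg, map_one, cj_apply, tv_coe,
        mul_assoc, Units.inv_mul, mul_one] at h1
      rw [mul_add, mul_one, add_mul, one_mul] at h1
      exact add_left_cancel h1
    let j : Fin n := ⟨0, by omega⟩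
    have hcol : ∀ i : Fin n, i ≠ j → ∀ a, a ≠ i → (g : Mat) a j = 0 := by
      intro i hij a hai
      have h2 := congrFun (congrFun (h1 i j hij) a) i
      rw [Matrix.mul_single_apply_same, Matrix.single_mul_apply_of_ne _ _ _ _ _ hai] at h2
      simpa using h2
    refine hgdet (Matrix.det_eq_zero_of_column_eq_zero j fun a => ?_)
    by_cases ha : a = ⟨1, by omega⟩
    · refine hcol ⟨2, by omega⟩ (fun e => ?_) a (fun e => ?_)
      · simpa [j] using congrArg Fin.val e
      · rw [ha] at e; simpa using congrArg Fin.val e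
    · exact hcol ⟨1, by omega⟩ (fun e => by simpa [j] using congrArg Fin.val e) a ha
  | false =>
    simp only [gpart, Bool.false_eq_true, if_false, mul_one] at hde hfix
    have h1 : ∀ (i j : Fin n) (hij : i ≠ j), ∀ a ∈ S,
        (g : Mat) * Matrix.single i j (τ a) = Matrix.single i j a * (g : Mat) := by
      intro i j hij a ha
      have h1 := congrArg (fun s : SLn => (s : Mat) * (g : Mat)) (hfix i j hij a ha)
      simp only [MulAut.mul_apply, fld_tv, cj_apply, tv_coe, mul_assoc, Units.inv_mul, mul_one] at h1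
      rw [mul_add, mul_one, add_mul, one_mul] at h1
      exact add_left_cancel h1
    have hoff : ∀ a i : Fin n, a ≠ i → (g : Mat) a i = 0 := by
      intro a i hai
      have h2 := congrFun (congrFun (h1 i a hai.symm 1 hS) a) a
      rw [map_one, Matrix.mul_single_apply_same, mul_one,
        Matrix.single_mul_apply_of_ne _ _ _ _ _ hai] at h2
      exact h2
    have hdiag : ∀ i j : Fin n, i ≠ j → ∀ a ∈ S, (g : Mat) i i * τ a = a * (g : Mat) j j := by
      intro i j hij a ha
      have h2 := congrFun (congrFun (h1 i j hij a ha) i) j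
      rwa [Matrix.mul_single_apply_same, Matrix.single_mul_apply_same] at h2
    have hnz : ∀ i, (g : Mat) i i ≠ 0 := by
      intro i hi
      refine hgdet (Matrix.det_eq_zero_of_column_eq_zero i fun a => ?_)
      rcases eq_or_ne a i with rfl | hai
      · exact hi
      · exact hoff a i hai
    have heq : ∀ i j : Fin n, (g : Mat) i i = (g : Mat) j j := by
      intro i j
      rcases eq_or_ne i j with rfl | hij
      · rfl
      · simpa using hdiag i j hij 1 hS
    let i0 : Fin n := ⟨0, by omega⟩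
    let j0 : Fin n := ⟨1, by omega⟩
    refine ⟨τ, fun a ha => ?_, ?_⟩
    · refine mul_left_cancel₀ (hnz i0) ?_
      rw [hdiag i0 j0 (fun e => by simpa [i0, j0] using congrArg Fin.val e) a ha, heq j0 i0, mul_comm]
    · have hgc : g ∈ Subgroup.center GLn := by
        rw [Matrix.GeneralLinearGroup.center_eq_range_scalar]
        refine ⟨Units.mk0 _ (hnz i0), Units.ext ?_⟩
        rw [scalar_coe]
        ext a b
        rcases eq_or_ne a b with rfl | hab
        · simp [heq a i0]
        · simp [hoff a b hab, hab]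
      rw [hde, cj_eq_one_of_mem_center hgc, one_mul]

end Inj

section Sub

variable (F₀ : Subfield F)

/-- Matrices over a subfield. -/
def jS : Matrix.SpecialLinearGroup (Fin n) F₀ →* SLn := Matrix.SpecialLinearGroup.map F₀.subtype

theorem jS_injective : Function.Injective (jS (n := n) F₀) := fun s t h => Subtype.ext
  (Matrix.map_injective F₀.subtype.injective (congrArg Subtype.val h))

theorem jS_tv (i j : Fin n) (h : i ≠ j) (a : F₀) : jS F₀ (tv i j h a) = tv i j h (a : F) := by
  apply Subtype.ext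
  show ((tv i j h a : Matrix.SpecialLinearGroup (Fin n) F₀) : Matrix (Fin n) (Fin n) F₀).map F₀.subtype = _
  rw [tv_coe, tv_coe, Matrix.map_add _ (map_add _), Matrix.map_one _ (map_zero _) (map_one _),
    Matrix.map_single _ _ _ F₀.subtype]
  rfl

theorem jS_center (s : Matrix.SpecialLinearGroup (Fin n) F₀) :
    jS F₀ s ∈ Subgroup.center SLn ↔ s ∈ Subgroup.center _ := by
  constructor
  · intro h
    refine Subgroup.mem_center_iff.2 fun t => jS_injective F₀ ?_
    rw [map_mul, map_mul]
    exact Subgroup.mem_center_iff.1 h _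
  · intro h
    rw [Matrix.SpecialLinearGroup.mem_center_iff] at h ⊢
    obtain ⟨c, hc, hs⟩ := h
    refine ⟨(c : F), by rw [← Subfield.coe_subtype, ← map_pow, hc, map_one], ?_⟩
    ext a b
    show _ = F₀.subtype ((s : Matrix (Fin n) (Fin n) F₀) a b)
    rw [← hs]
    simp only [Matrix.scalar_apply, Matrix.diagonal_apply]
    rw [apply_ite F₀.subtype, map_zero]
    rfl

/-- The group over the subfield. -/
def jP : Matrix.ProjectiveSpecialLinearGroup (Fin n) F₀ →* PSLn :=
  QuotientGroup.map _ _ (jS F₀) fun s hs => (jS_center F₀ s).2 hs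

theorem jP_proj (s : Matrix.SpecialLinearGroup (Fin n) F₀) :
    jP F₀ (proj n F₀ s) = proj n F (jS F₀ s) := rfl

theorem jP_injective : Function.Injective (jP (n := n) F₀) := by
  rw [injective_iff_map_eq_one]
  intro x hx
  obtain ⟨s, rfl⟩ := proj_surjective x
  rw [jP_proj, proj_eq_one_iff, jS_center] at hx
  rw [proj_eq_one_iff]
  exact hx

theorem jS_cj (g : GL (Fin n) F₀) (s : Matrix.SpecialLinearGroup (Fin n) F₀) :
    jS F₀ (cj g s) = cj (Matrix.GeneralLinearGroup.map F₀.subtype g) (jS F₀ s) := by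
  apply Subtype.ext
  show ((cj g s : Matrix.SpecialLinearGroup (Fin n) F₀) : Matrix (Fin n) (Fin n) F₀).map F₀.subtype = _
  rw [cj_apply, cj_apply, Matrix.map_mul, Matrix.map_mul, ← map_inv (Matrix.GeneralLinearGroup.map F₀.subtype)]
  rfl

/-- The conjugations by matrices over the subfield. -/
def Psi : GL (Fin n) F₀ →* MulAut PSLn :=
  (descend.comp cj).comp (Matrix.GeneralLinearGroup.map F₀.subtype)

end Sub

theorem pow_eq_one_of_fix [Finite F] (σ τ : F ≃+* F) (hr : 0 < orderOf σ)
    (h : ∀ a, σ a = a → τ a = a) : τ ^ orderOf σ = 1 := by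
  let F₀ := (σ : F →+* F).eqLocusField (RingHom.id F)
  haveI : Module.Finite F₀ F := Module.Finite.of_finite
  let ψ : Gal(F/F₀) := AlgEquiv.ofRingEquiv (f := τ) fun a => h a.1 a.2
  haveI : IsGalois F₀ F := GaloisField.instIsGaloisOfFinite
  have hcard : Nat.card Gal(F/F₀) = orderOf σ := by
    rw [IsGalois.card_aut_eq_finrank]
    have h1 : Nat.card F = Nat.card F₀ ^ Module.finrank F₀ F := Module.natCard_eq_pow_finrank
    have h2 := AutPSL.card_eq_card_fixed_pow σ
    rw [h1] at h2
    exact Nat.pow_right_injective Finite.one_lt_card h2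
  have e := pow_card_eq_one' (x := ψ)
  rw [hcard] at e
  ext a
  have hpow : ∀ i : ℕ, (ψ ^ i) a = (τ ^ i) a := by
    intro i
    induction i with
    | zero => rfl
    | succ i ih => rw [pow_succ', pow_succ', AlgEquiv.mul_apply, ih]; rfl
  rw [← hpow, e]
  rfl

theorem fld_pow (σ : F ≃+* F) : ∀ i, (fld σ : MulAut SLn) ^ i = fld (σ ^ i)
  | 0 => fld_one.symm
  | i + 1 => by rw [pow_succ, fld_pow σ i, pow_succ, fld_mul]; rfl

section Field

variable [Finite F] (r : ℕ) [Fact r.Prime] [CharP F r] (hn : 2 ≤ n)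
  (p : ℕ) [Fact p.Prime] (σ : F ≃+* F) (hσ : orderOf σ = p)

local notation "F₀" => RingHom.eqLocusField (σ : F →+* F) (RingHom.id F)
local notation "φ" => stdAut (F := F) n σ false

theorem stdAut_jP (l : Matrix.ProjectiveSpecialLinearGroup (Fin n) ↥F₀) : φ (jP F₀ l) = jP F₀ l := by
  obtain ⟨s, rfl⟩ := proj_surjective l
  rw [jP_proj, stdAut, descend_proj]
  congr 1
  simp only [gpart, Bool.false_eq_true, if_false, mul_one]
  apply Subtype.ext
  rw [fld_apply]
  ext a b
  exact ((s : Matrix (Fin n) (Fin n) ↥F₀) a b).2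

include r hn hσ

/-- A fixed point is induced by a matrix over the subfield. -/
theorem exists_Psi (k : PSLn) (hk : φ k = k) : ∃ g : GL (Fin n) ↥F₀, MulAut.conj k = Psi F₀ g := by
  have hp : (p : ℕ).Prime := Fact.out
  obtain ⟨s, rfl⟩ := proj_surjective k
  have hc := commute_conj hk
  rw [← descend_conj, ← cj_toGL] at hc
  obtain ⟨b, hb⟩ := exists_fixed_field r hn σ (hσ ▸ hp.pos) _ ((commute_stdAut_iff r hn σ false _).1 hc)
  set g := Matrix.SpecialLinearGroup.toGL s * scal b
  have hmem : ∀ a c, (g : Mat) a c ∈ F₀ := fun a c => by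
    have h := congrArg (fun z : GLn => (z : Mat) a c) hb
    exact h
  let M : Matrix (Fin n) (Fin n) ↥F₀ := fun a c => ⟨(g : Mat) a c, hmem a c⟩
  have hMm : M.map (F₀).subtype = (g : Mat) := rfl
  have hdet : M.det ≠ 0 := fun h => by
    have := RingHom.map_det (F₀).subtype M
    rw [h, map_zero, RingHom.mapMatrix_apply, hMm] at this
    exact ((Matrix.isUnit_iff_isUnit_det (g : Mat)).mp g.isUnit).ne_zero this.symm
  refine ⟨Matrix.GeneralLinearGroup.mkOfDetNeZero M hdet, ?_⟩
  have e : Matrix.GeneralLinearGroup.map (F₀).subtype (Matrix.GeneralLinearGroup.mkOfDetNeZero M hdet) = g :=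
    Units.ext hMm
  rw [Psi, MonoidHom.comp_apply, MonoidHom.comp_apply, e, ← descend_conj, ← cj_toGL, map_mul cj,
    cj_eq_one_of_mem_center (scalar_mem_center b), mul_one]

theorem normal_jP (k : PSLn) (hk : φ k = k) (l : Matrix.ProjectiveSpecialLinearGroup (Fin n) ↥F₀) :
    ∃ l', k * jP F₀ l * k⁻¹ = jP F₀ l' := by
  obtain ⟨g, hg⟩ := exists_Psi r hn p σ hσ k hk
  obtain ⟨s, rfl⟩ := proj_surjective l
  refine ⟨proj n _ (cj g s), ?_⟩
  rw [← MulAut.conj_apply, hg, jP_proj, jP_proj, jS_cj]
  rfl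

theorem stab_jP (d : MulAut PSLn) (hd : ∀ l, d (jP F₀ l) = jP F₀ l) :
    ∃ τ : F ≃+* F, (∀ a, σ a = a → τ a = a) ∧ d = descend (fld τ) := by
  obtain ⟨τ, h1, h2⟩ := eq_fld_of_fix_tv r hn {a | σ a = a} (map_one σ) d fun i j h a ha => by
    have := hd (proj n _ (tv i j h (⟨a, ha⟩ : ↥F₀)))
    rwa [jP_proj, jS_tv] at this
  exact ⟨τ, h1, h2⟩

theorem centralizer_jP (k : PSLn) (h : ∀ l, k * jP F₀ l = jP F₀ l * k) : k = 1 := by
  obtain ⟨τ, -, e⟩ := stab_jP r hn p σ hσ (MulAut.conj k) fun l => by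
    rw [MulAut.conj_apply, h, mul_inv_cancel_right]
  obtain ⟨s, rfl⟩ := proj_surjective k
  rw [← descend_conj, ← cj_toGL] at e
  have h1 : descend (cj (Matrix.SpecialLinearGroup.toGL s)⁻¹ * fld τ) = (1 : MulAut PSLn) := by
    rw [map_mul descend, ← e, map_inv, map_inv, inv_mul_cancel]
  obtain ⟨hc, -⟩ := eq_of_descend_eq_one r hn h1
  refine conj_injective r hn ?_
  rw [map_one, ← descend_conj, ← cj_toGL, descend_cj_eq_one_iff r hn]
  exact inv_mem_iff.1 hc

theorem card_fix_dvd : Nat.card ↥(Fix φ) ∣ Nat.card (GL (Fin n) ↥F₀) := by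
  have hle : (Fix φ).map (MulAut.conj : PSLn →* MulAut PSLn) ≤ (Psi (n := n) F₀).range := by
    rintro _ ⟨k, hk, rfl⟩
    obtain ⟨g, hg⟩ := exists_Psi r hn p σ hσ k hk
    exact ⟨g, hg.symm⟩
  rw [← Subgroup.card_map_of_injective (K := Fix φ) (conj_injective r hn)]
  exact (Subgroup.card_dvd_of_le hle).trans (Subgroup.card_range_dvd _)

/-- The group over the subfield has elements of order `p`. -/
theorem dvd_card_psl (hdvd : p ∣ Nat.card (GL (Fin n) ↥F₀)) :
    p ∣ Nat.card (Matrix.ProjectiveSpecialLinearGroup (Fin n) ↥F₀) := by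
  classical
  have hp : (p : ℕ).Prime := Fact.out
  haveI : Finite ↥F₀ := inferInstance
  suffices h : ∃ a : Matrix.SpecialLinearGroup (Fin n) ↥F₀,
      a ∉ Subgroup.center _ ∧ a ^ p ∈ Subgroup.center _ by
    obtain ⟨a, h1, h2⟩ := h
    have hord : orderOf (proj n ↥F₀ a) = p := orderOf_eq_prime
      (by rw [← map_pow, proj_eq_one_iff]; exact h2) (by rw [Ne, proj_eq_one_iff]; exact h1)
    rw [← hord]
    exact orderOf_dvd_natCard _
  by_cases hq : p ∣ Nat.card (↥F₀)ˣ
  · obtain ⟨ζ, hζ⟩ := exists_prime_orderOf_dvd_card' p hq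
    have hζ1 : ζ ≠ 1 := fun e => by rw [e, orderOf_one] at hζ; exact hp.ne_one hζ.symm
    let i0 : Fin n := ⟨0, by omega⟩
    let i1 : Fin n := ⟨1, by omega⟩
    have h01 : i0 ≠ i1 := fun e => by simpa [i0, i1] using congrArg Fin.val e
    by_cases h22 : n = 2 ∧ p = 2
    · obtain ⟨rfl, rfl⟩ := h22
      refine ⟨swapElt i0 i1 h01, fun hc => ?_, ?_⟩
      · obtain ⟨c, -, hc⟩ := Matrix.SpecialLinearGroup.mem_center_iff.1 hc
        have := congrFun (congrFun hc i0) i1
        simp [swapElt_coe, i0, i1] at this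
      · rw [Matrix.SpecialLinearGroup.mem_center_iff]
        refine ⟨-1, by simp, ?_⟩
        rw [Matrix.SpecialLinearGroup.coe_pow, swapElt_coe]
        ext a b
        fin_cases a <;> fin_cases b <;>
          simp [pow_two, Matrix.mul_apply, Fin.sum_univ_two, i0, i1]
    · let dd : Fin n → ↥F₀ := fun k => if k = i0 then (ζ : ↥F₀) else if k = i1 then ((ζ⁻¹ : (↥F₀)ˣ) : ↥F₀) else 1
      have hdet : (Matrix.diagonal dd).det = 1 := by
        rw [Matrix.det_diagonal, Fintype.prod_eq_mul i0 i1 h01 fun k hk => by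
          simp only [dd, if_neg hk.1, if_neg hk.2]]
        simp only [dd, if_true, if_neg h01.symm]
        exact ζ.mul_inv
      refine ⟨⟨Matrix.diagonal dd, hdet⟩, fun hc => ?_, ?_⟩
      · obtain ⟨c, -, hc⟩ := Matrix.SpecialLinearGroup.mem_center_iff.1 hc
        have hk : ∀ k, c = dd k := fun k => by simpa using congrFun (congrFun hc k) k
        by_cases hn2 : n = 2
        · have e := (hk i0).symm.trans (hk i1)
          simp only [dd, if_true, if_neg h01.symm] at e
          have e2 : ζ ^ 2 = 1 := by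
            rw [pow_two, mul_eq_one_iff_eq_inv]
            exact Units.ext e
          have := orderOf_dvd_of_pow_eq_one e2
          rw [hζ] at this
          exact h22 ⟨hn2, (Nat.prime_dvd_prime_iff_eq hp Nat.prime_two).1 this⟩
        · have e := (hk i0).symm.trans (hk ⟨2, by omega⟩)
          simp [dd, i0, i1] at e
          exact hζ1 e
      · have : HPow.hPow (α := Matrix.SpecialLinearGroup (Fin n) ↥F₀) ⟨Matrix.diagonal dd, hdet⟩ p = 1 := by
          refine sl_pow_eq_one _ p ?_
          show Matrix.diagonal dd ^ p = 1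
          rw [Matrix.diagonal_pow, ← Matrix.diagonal_one]
          congr 1
          funext k
          simp only [Pi.pow_apply, dd]
          have hz : ζ ^ p = 1 := hζ ▸ pow_orderOf_eq_one ζ
          split_ifs
          · rw [← Units.val_pow_eq_pow_val, hz, Units.val_one]
          · rw [← Units.val_pow_eq_pow_val, inv_pow, hz, inv_one, Units.val_one]
          · exact one_pow p
        rw [this]; exact one_mem _
  · obtain ⟨x, hx⟩ := exists_prime_orderOf_dvd_card' p hdvd
    have hdet : Matrix.GeneralLinearGroup.det x = 1 := by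
      have h1 : orderOf (Matrix.GeneralLinearGroup.det x) ∣ p := hx ▸ orderOf_map_dvd _ x
      rcases (Nat.dvd_prime hp).1 h1 with h | h
      · exact orderOf_eq_one_iff.1 h
      · exact absurd (h ▸ orderOf_dvd_natCard _) hq
    have hxp : x ^ p = 1 := hx ▸ pow_orderOf_eq_one x
    refine ⟨⟨(x : Matrix (Fin n) (Fin n) ↥F₀), congrArg Units.val hdet⟩, fun hc => ?_, ?_⟩
    · obtain ⟨c, -, hc⟩ := Matrix.SpecialLinearGroup.mem_center_iff.1 hc
      have hcp : c ^ p = 1 := by
        have h1 := congrArg Units.val hxp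
        rw [Units.val_pow_eq_pow_val, show (x : Matrix (Fin n) (Fin n) ↥F₀) = Matrix.scalar (Fin n) c from hc.symm,
          ← map_pow] at h1
        simpa using congrFun (congrFun h1 ⟨0, by omega⟩) ⟨0, by omega⟩
      have hu : IsUnit c := IsUnit.of_pow_eq_one hcp hp.ne_zero
      obtain ⟨c, rfl⟩ := hu
      have hc1 : c = 1 := by
        by_contra hne
        refine hq ?_
        have hcp' : c ^ p = 1 := Units.ext (by rw [Units.val_pow_eq_pow_val, hcp, Units.val_one])
        rw [← orderOf_eq_prime hcp' hne]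
        exact orderOf_dvd_natCard c
      have : x = 1 := Units.ext (by
        rw [show (x : Matrix (Fin n) (Fin n) ↥F₀) = Matrix.scalar (Fin n) _ from hc.symm, hc1, Units.val_one,
          map_one, Units.val_one])
      rw [this, orderOf_one] at hx
      exact hp.ne_one hx.symm
    · have : HPow.hPow (α := Matrix.SpecialLinearGroup (Fin n) ↥F₀)
          ⟨(x : Matrix (Fin n) (Fin n) ↥F₀), congrArg Units.val hdet⟩ p = 1 := sl_pow_eq_one _ p
        ((Units.val_pow_eq_pow_val x p).symm.trans (congrArg Units.val hxp))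
      rw [this]; exact one_mem _

theorem no_core (hpr : p ≠ r) (hdvd : p ∣ Nat.card ↥(Fix φ))
    (N : Subgroup (Matrix.ProjectiveSpecialLinearGroup (Fin n) ↥F₀)) (hN : N.Normal)
    (hco : (Nat.card N).Coprime p) : N = ⊥ := by
  classical
  have hp : (p : ℕ).Prime := Fact.out
  have hG := hdvd.trans (card_fix_dvd r hn p σ hσ)
  have hL := dvd_card_psl r hn p σ hσ hG
  haveI : Fintype ↥F₀ := Fintype.ofFinite _
  haveI : CharP ↥F₀ r := ((F₀).subtype.charP_iff (F₀).subtype.injective r).2 inferInstance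
  by_cases h4 : n = 2 → 4 ≤ Nat.card ↥F₀
  · haveI := LinGrp.isSimpleGroup_PSL_fin (F := ↥F₀) n hn h4
    exact simple_hL p hL N hN hco
  simp only [not_forall, not_le] at h4
  obtain ⟨rfl, hq⟩ := h4
  have hq2 : 2 ≤ Nat.card ↥F₀ := Finite.one_lt_card
  -- a normal `r`-subgroup is trivial
  have hpg : IsPGroup r N := by
    have hNd : Nat.card N ∣ Nat.card (GL (Fin 2) ↥F₀) :=
      ((Subgroup.card_subgroup_dvd_card N).trans (Subgroup.card_quotient_dvd_card _)).trans
        (Subgroup.card_dvd_of_injective Matrix.SpecialLinearGroup.toGL Matrix.SpecialLinearGroup.toGL_injective)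
    have hqr : r ∣ Nat.card ↥F₀ := by
      rw [Nat.card_eq_fintype_card]
      obtain ⟨k, -, hk⟩ := FiniteField.card ↥F₀ r
      rw [hk]
      exact dvd_pow_self r k.ne_zero
    rw [Matrix.card_GL_field, Fin.prod_univ_two] at hNd hG
    rw [← Nat.card_eq_fintype_card] at hNd hG
    have hr2 : 2 ≤ r := (Fact.out : r.Prime).two_le
    rcases (show Nat.card ↥F₀ = 2 ∨ Nat.card ↥F₀ = 3 by omega) with e | e <;> rw [e] at hNd hG hqr <;>
      norm_num at hNd hG
    · obtain rfl : r = 2 := (Nat.prime_dvd_prime_iff_eq (Fact.out : r.Prime) Nat.prime_two).1 hqr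
      have hp3 : p = 3 := by
        rcases hp.dvd_mul.1 (show p ∣ 2 * 3 by norm_num; exact hG) with h | h
        · exact absurd ((Nat.prime_dvd_prime_iff_eq hp Nat.prime_two).1 h) hpr
        · exact (Nat.prime_dvd_prime_iff_eq hp Nat.prime_three).1 h
      subst hp3
      have key : ∀ k < 7, k ∣ 6 → Nat.Coprime k 3 → k ∣ 2 := by decide
      rw [← Nat.card_eq_fintype_card] at hNd
      obtain ⟨i, -, hi⟩ := (Nat.dvd_prime_pow Nat.prime_two (m := 1)).1
        (key _ (Nat.lt_succ_of_le (Nat.le_of_dvd (by norm_num) hNd)) hNd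
          (Nat.card_eq_fintype_card (α := N) ▸ hco))
      exact IsPGroup.of_card hi
    · obtain rfl : r = 3 := (Nat.prime_dvd_prime_iff_eq (Fact.out : r.Prime) Nat.prime_three).1 hqr
      have hp2 : p = 2 := by
        rcases hp.dvd_mul.1 (show p ∣ 2 ^ 4 * 3 by norm_num; exact hG) with h | h
        · exact (Nat.prime_dvd_prime_iff_eq hp Nat.prime_two).1 (hp.dvd_of_dvd_pow h)
        · exact absurd ((Nat.prime_dvd_prime_iff_eq hp Nat.prime_three).1 h) hpr
      subst hp2
      have key : ∀ k < 49, k ∣ 48 → Nat.Coprime k 2 → k ∣ 3 := by decide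
      rw [← Nat.card_eq_fintype_card] at hNd
      obtain ⟨i, -, hi⟩ := (Nat.dvd_prime_pow Nat.prime_three (m := 1)).1
        (key _ (Nat.lt_succ_of_le (Nat.le_of_dvd (by norm_num) hNd)) hNd
          (Nat.card_eq_fintype_card (α := N) ▸ hco))
      exact IsPGroup.of_card hi
  have hle : ∀ S : Sylow r (Matrix.ProjectiveSpecialLinearGroup (Fin 2) ↥F₀), N ≤ S := by
    intro S
    obtain ⟨T, hT⟩ := hpg.exists_le_sylow
    obtain ⟨x, rfl⟩ := MulAction.exists_smul_eq (Matrix.ProjectiveSpecialLinearGroup (Fin 2) ↥F₀) T S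
    intro y hy
    have h1 : x⁻¹ * y * x ∈ (T : Subgroup _) := hT (by simpa using hN.conj_mem y hy x⁻¹)
    refine ⟨_, h1, ?_⟩
    simp [MulAut.conj_apply, mul_assoc]
  obtain ⟨SL', hSL⟩ := projL_isSylow (n := 2) (F := ↥F₀) r
  refine eq_bot_iff.2 fun y hy => ?_
  have h1 : y ∈ projU 2 ↥F₀ := hle (sylU r) hy
  have h2 : y ∈ projL 2 ↥F₀ := hSL ▸ hle SL' hy
  rw [← projU_inf_projL (n := 2) (F := ↥F₀) r]
  exact ⟨h1, h2⟩

/-- The criterion for a standard field automorphism. -/
theorem field_criterion (hpr : p ≠ r) (A : Subgroup (MulAut PSLn)) (hinn : ∀ k, MulAut.conj k ∈ A) :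
    Cfsg.pPrimeCore p ↥(A ⊓ Subgroup.centralizer {φ}) ≠ ⊥ ↔ Nat.Coprime p (Nat.card ↥(Fix φ)) := by
  have hp : (p : ℕ).Prime := Fact.out
  have hinj := conj_injective (F := F) r hn
  constructor
  · intro hne
    by_contra hco
    rw [hp.coprime_iff_not_dvd, not_not] at hco
    refine hne (core_eq_bot A hinn φ hinj p ?_ fun d _ hd => ?_)
    · exact core_fix_eq_bot φ p (jP F₀) (jP_injective F₀) (stdAut_jP σ) (normal_jP r hn p σ hσ)
        (fun k _ => centralizer_jP r hn p σ hσ k) (no_core r hn p σ hσ hpr hco)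
    · obtain ⟨τ, hτ, rfl⟩ := stab_jP r hn p σ hσ d fun l => hd _ (stdAut_jP σ l)
      rw [← map_pow, fld_pow, ← hσ, pow_eq_one_of_fix σ τ (hσ ▸ hp.pos) hτ,
        show (1 : F ≃+* F) = RingEquiv.refl F from rfl, fld_one, map_one]
  · refine core_ne_bot A hinn φ hinj p fun hbot => ?_
    let i0 : Fin n := ⟨0, by omega⟩
    let i1 : Fin n := ⟨1, by omega⟩
    have h01 : i0 ≠ i1 := fun e => by simpa [i0, i1] using congrArg Fin.val e
    have h1 : jP F₀ (proj n ↥F₀ (tv i0 i1 h01 1)) ∈ Fix φ := stdAut_jP σ _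
    rw [hbot, Subgroup.mem_bot, jP_proj, jS_tv] at h1
    exact one_ne_zero (proj_tv_eq_one r h01 h1)

end Field

end Cfsg.Agent.LocalBal.PSL
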