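import Mathlib
import Cfsg.Agent.Lib.LocalBal.PSLField
import Cfsg.Agent.Lib.AutPSL.GraphClasses
import Cfsg.Agent.Lib.AutPSL.GraphSim
import Cfsg.Agent.Lib.AutPOmega.GraphCore
import Cfsg.Agent.Lib.OddCoreForms.Orth
import Cfsg.Agent.S2730

/-!
# Cores of centralisers of graph involutions of `PSL_n`
-/

set_option autoImplicit false
set_option linter.unusedSectionVars false
set_option linter.style.haveILetI false

namespace Cfsg.Agent.LocalBal.PSL

open Matrix Cfsg.Agent.AutPSL

universe u

variable {F : Type u} [Field F] {n : ℕ}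

local notation "SLn" => Matrix.SpecialLinearGroup (Fin n) F
local notation "PSLn" => Matrix.ProjectiveSpecialLinearGroup (Fin n) F
local notation "Mat" => Matrix (Fin n) (Fin n) F
local notation "GLn" => GL (Fin n) F
local notation "scal" => Matrix.GeneralLinearGroup.scalar (Fin n)
local notation "V" => Fin n → F

/-- The isometries of a bilinear form. -/
def isom (M : Mat) : Subgroup GLn where
  carrier := {g | (g : Mat)ᵀ * M * g = M}
  one_mem' := by simp
  mul_mem' {a b} ha hb := by
    rw [Set.mem_ofPred_eq] at ha hb ⊢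
    rw [Units.val_mul, Matrix.transpose_mul,
      show (b : Mat)ᵀ * (a : Mat)ᵀ * M * ((a : Mat) * b) = (b : Mat)ᵀ * ((a : Mat)ᵀ * M * a) * b by noncomm_ring,
      ha, hb]
  inv_mem' {a} ha := by
    rw [Set.mem_ofPred_eq] at ha ⊢
    conv_lhs => rw [← ha]
    rw [show ((a⁻¹ : GLn) : Mat)ᵀ * ((a : Mat)ᵀ * M * a) * (a⁻¹ : GLn) =
      ((a : Mat) * ((a⁻¹ : GLn) : Mat))ᵀ * M * ((a : Mat) * ((a⁻¹ : GLn) : Mat)) by rw [Matrix.transpose_mul]; noncomm_ring,
      Units.mul_inv, Matrix.transpose_one, one_mul, mul_one]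

theorem mem_isom {M : Mat} {g : GLn} : g ∈ isom M ↔ (g : Mat)ᵀ * M * g = M := Iff.rfl

theorem isom_le_simB {M : Mat} {g : GLn} (hg : g ∈ isom M) : g ∈ simB M :=
  (mem_simB M g).2 ⟨1, by rw [Units.val_one, one_smul]; exact hg⟩

theorem cjD_toGL (s : SLn) : cjD n F (Matrix.SpecialLinearGroup.toGL s) = MulAut.conj (proj n F s) := by
  show descend (cj (Matrix.SpecialLinearGroup.toGL s)) = _
  rw [cj_toGL, descend_conj]

theorem eq_one_of_odd_pow {G : Type*} [Monoid G] {g : G} {k : ℕ} (hk : Odd k) (h1 : g ^ k = 1) (h2 : g ^ 2 = 1) :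
    g = 1 := by
  obtain ⟨j, rfl⟩ := hk
  rwa [pow_succ, pow_mul, h2, one_pow, one_mul] at h1

variable [Finite F] (r : ℕ) [Fact r.Prime] [CharP F r] (hn : 3 ≤ n) (B : GL (Fin n) F)

include r hn

theorem fix_gam_iff (s : SLn) : gam B (proj n F s) = proj n F s ↔
    Matrix.SpecialLinearGroup.toGL s ∈ simB (B : Mat) := by
  rw [← commute_gam_iff r hn, cjD_toGL]
  exact ⟨fun h => commute_conj h, fun h => fix_of_commute (conj_injective r (by omega)) h⟩

/-- An automorphism fixing the fixed points fixes isometries up to scalars. -/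
theorem exists_smul_of_fix {e : MulAut SLn} (hd : ∀ k, gam B k = k → descend e k = k) {s : SLn}
    (hs : Matrix.SpecialLinearGroup.toGL s ∈ isom (B : Mat)) : ∃ z ∈ Subgroup.center SLn, e s = z * s := by
  refine ⟨e s * s⁻¹, ?_, by group⟩
  rw [← proj_eq_one_iff, map_mul, map_inv, ← descend_proj, hd _ ((fix_gam_iff r hn B s).2 (isom_le_simB hs)),
    mul_inv_cancel]

theorem central_involution {z w : SLn} (hz : z ∈ Subgroup.center SLn) (hw : w ∈ Subgroup.center SLn)
    (hz2 : z * z = 1) (hw2 : w * w = 1) : z = 1 ∨ w = 1 ∨ z = w := by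
  rw [Matrix.SpecialLinearGroup.mem_center_iff] at hz hw
  obtain ⟨c, -, hc⟩ := hz
  obtain ⟨d, -, hd⟩ := hw
  have key : ∀ {x : SLn} {a : F}, Matrix.scalar (Fin n) a = (x : Mat) → x * x = 1 → a = 1 ∨ a = -1 := by
    intro x a ha hx
    have h := congrArg (fun y : SLn => (y : Mat) ⟨0, by omega⟩ ⟨0, by omega⟩) hx
    simp only [Matrix.SpecialLinearGroup.coe_mul, ← ha, ← map_mul, Matrix.SpecialLinearGroup.coe_one] at h
    simpa [mul_self_eq_one_iff] using h
  rcases key hc hz2 with rfl | rfl
  · exact Or.inl (Subtype.ext (by rw [← hc, map_one]; rfl))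
  rcases key hd hw2 with rfl | rfl
  · exact Or.inr (Or.inl (Subtype.ext (by rw [← hd, map_one]; rfl)))
  · exact Or.inr (Or.inr (Subtype.ext (hc.symm.trans hd)))

/-- The square of an automorphism fixes the involutory isometries. -/
theorem sq_fix_invol {e : MulAut SLn} (hd : ∀ k, gam B k = k → descend e k = k) {s : SLn}
    (hs : Matrix.SpecialLinearGroup.toGL s ∈ isom (B : Mat)) (hs2 : s * s = 1) : (e * e) s = s := by
  obtain ⟨z, hz, he⟩ := exists_smul_of_fix r hn B hd hs
  have hzc := Subgroup.mem_center_iff.1 hz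
  have hz2 : z * z = 1 := by
    have h := congrArg e hs2
    rw [map_mul, map_one, he, mul_assoc, ← mul_assoc s, hzc s, mul_assoc z s, hs2, mul_one] at h
    exact h
  have hez : e z = z := by
    have h1 : e z ∈ Subgroup.center SLn := Subgroup.mem_center_iff.2 fun t => by
      obtain ⟨t, rfl⟩ := e.surjective t
      rw [← map_mul, ← map_mul, hzc]
    rcases central_involution r hn hz h1 hz2 (by rw [← map_mul, hz2, map_one]) with h | h | h
    · rw [h, map_one]
    · rw [e.map_eq_one_iff.1 h, map_one]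
    · exact h.symm
  rw [MulAut.mul_apply, he, map_mul, hez, he, ← mul_assoc, hz2, one_mul]

omit r hn in
theorem apply_mul_right (g : GLn) (τ : F ≃+* F) (s : SLn) :
    (((cj g * fld τ : MulAut SLn) s : SLn) : Mat) * (g : Mat) = (g : Mat) * (s : Mat).map τ := by
  rw [MulAut.mul_apply, cj_apply, fld_apply, mul_assoc, Units.inv_mul, mul_one]

/-- The squares of automorphisms fixing the fixed points. -/
theorem exists_sq (d : MulAut PSLn) (hd : ∀ k, gam B k = k → d k = k) :
    ∃ (e : MulAut SLn) (g : GLn) (τ : F ≃+* F), e * e = cj g * fld τ ∧ d = descend e ∧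
      ∀ k, gam B k = k → descend (cj g * fld τ) k = k := by
  obtain ⟨g, τ, ε, rfl⟩ := exists_normal_form r (by omega : 2 ≤ n) d
  have e := nf_mul (n := n) g g τ τ ε ε
  rw [Bool.xor_self, show (gpart false : MulAut SLn) = 1 by simp [gpart], mul_one] at e
  refine ⟨_, _, _, e, rfl, fun k hk => ?_⟩
  rw [← e, map_mul, MulAut.mul_apply, hd k hk, hd k hk]

omit r hn in
theorem descend_eq_one_of_diag (hn' : 2 ≤ n) (g : GLn) (τ : F ≃+* F)
    (hoff : ∀ k a : Fin n, k ≠ a → (g : Mat) k a = 0)
    (key : ∀ a b : Fin n, a ≠ b → ∀ y : F, (g : Mat) b b * τ y = (g : Mat) a a * y) :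
    descend (cj g * fld τ) = (1 : MulAut PSLn) := by
  let i0 : Fin n := ⟨0, by omega⟩
  have heq : ∀ a, (g : Mat) a a = (g : Mat) i0 i0 := fun a => by
    by_cases h : a = i0
    · rw [h]
    · simpa using key i0 a (Ne.symm h) 1
  have hg0 : (g : Mat) i0 i0 ≠ 0 := fun e => by
    refine ((Matrix.isUnit_iff_isUnit_det (g : Mat)).mp g.isUnit).ne_zero
      (Matrix.det_eq_zero_of_column_eq_zero i0 fun k => ?_)
    by_cases h : k = i0
    · rw [h, e]
    · exact hoff k i0 h
  have hτ : τ = RingEquiv.refl F := RingEquiv.ext fun y => by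
    have h1 := key i0 ⟨1, by omega⟩ (fun e => by simpa [i0] using congrArg Fin.val e) y
    rw [heq] at h1
    exact mul_left_cancel₀ hg0 h1
  have hgc : g ∈ Subgroup.center GLn := by
    rw [Matrix.GeneralLinearGroup.center_eq_range_scalar]
    refine ⟨Units.mk0 _ hg0, Units.ext ?_⟩
    rw [scalar_coe]
    ext a b
    rcases eq_or_ne a b with rfl | hab
    · simp [heq a]
    · simp [hoff a b hab, hab]
  rw [hτ, fld_one, mul_one, cj_eq_one_of_mem_center hgc, map_one]

/-- The stabiliser of the fixed points for an alternating form. -/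
theorem stab_skew (h2 : (2 : F) ≠ 0) (hB : (B : Mat)ᵀ = -(B : Mat)) (d : MulAut PSLn)
    (hd : ∀ k, gam B k = k → d k = k) : d ^ 2 = 1 := by
  obtain ⟨e, g, τ, hee, rfl, hd2⟩ := exists_sq r hn B d hd
  rw [sq, ← map_mul, hee]
  have halt : ∀ v : V, ((B : Mat) *ᵥ v) ⬝ᵥ v = 0 := fun v => by
    have h : ((B : Mat) *ᵥ v) ⬝ᵥ v = -(((B : Mat) *ᵥ v) ⬝ᵥ v) := by
      conv_lhs => rw [dotProduct_comm, Matrix.dotProduct_mulVec, ← Matrix.mulVec_transpose, hB, Matrix.neg_mulVec,
        neg_dotProduct]
    exact (mul_eq_zero.1 (show (2 : F) * _ = 0 by linear_combination h)).resolve_left h2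
  have hline : ∀ v : V, v ≠ 0 → ∃ μ : F, (g : Mat) *ᵥ (fun i => τ (v i)) = μ • v := by
    intro v hv
    set w := (B : Mat) *ᵥ v with hw
    have hw0 : w ≠ 0 := fun h => hv (by
      have := congrArg (fun z => ((B⁻¹ : GLn) : Mat) *ᵥ z) h
      simpa [hw, Matrix.mulVec_mulVec, Units.inv_mul] using this)
    set X := Matrix.vecMulVec v w with hX
    have hXX : X * X = 0 := by rw [hX, Matrix.vecMulVec_mul_vecMulVec, halt v]; simp
    have hdet : (1 + X).det = 1 := by
      rw [hX, Matrix.vecMulVec_eq (ι := Unit), Matrix.det_one_add_replicateCol_mul_replicateRow, halt v, add_zero]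
    let t : SLn := ⟨1 + X, hdet⟩
    have hpow : ∀ k : ℕ, (1 + X) ^ k = 1 + (k : F) • X := by
      intro k
      induction k with
      | zero => simp
      | succ k ih =>
        rw [pow_succ, ih, add_mul, one_mul, Matrix.smul_mul, mul_add, mul_one, hXX, add_zero, Nat.cast_succ,
          add_smul, one_smul]
        abel
    have htr : t ^ r ^ 1 = 1 := sl_pow_eq_one _ _ (by
      rw [pow_one, hpow, CharP.cast_eq_zero, zero_smul, add_zero])
    have hmem : Matrix.SpecialLinearGroup.toGL t ∈ isom (B : Mat) := by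
      rw [mem_isom]
      show (1 + X)ᵀ * (B : Mat) * (1 + X) = _
      have e1 : (B : Mat) * X = Matrix.vecMulVec w w := by rw [hX, Matrix.mul_vecMulVec, ← hw]
      have e2 : Xᵀ * (B : Mat) = -Matrix.vecMulVec w w := by
        rw [hX, Matrix.transpose_vecMulVec, Matrix.vecMulVec_mul, ← Matrix.mulVec_transpose, hB, Matrix.neg_mulVec,
          ← hw, Matrix.vecMulVec_neg]
      have e3 : Matrix.vecMulVec w w * X = 0 := by
        rw [hX, Matrix.vecMulVec_mul_vecMulVec, halt v]; simp
      rw [Matrix.transpose_add, Matrix.transpose_one, add_mul, one_mul, e2, mul_add, mul_one, add_mul, e1,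
        neg_mul, e3, neg_zero, add_zero, neg_add_cancel_right]
    have hs : (cj g * fld τ : MulAut SLn) t = t := by
      refine eq_of_proj_eq r (k := 1) (l := 1) ?_ htr ?_
      · rw [← map_pow, htr, map_one]
      · rw [← descend_proj, hd2 _ ((fix_gam_iff r hn B t).2 (isom_le_simB hmem))]
    have hM : (g : Mat) * (1 + X).map τ = (1 + X) * (g : Mat) := by
      have h := apply_mul_right g τ t
      rw [hs] at h
      exact h.symm
    rw [Matrix.map_add _ (map_add _), Matrix.map_one _ (map_zero _) (map_one _), mul_add, mul_one, add_mul,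
      one_mul, add_right_inj, hX, show (Matrix.vecMulVec v w).map τ =
        Matrix.vecMulVec (fun i => τ (v i)) (fun i => τ (w i)) by ext a b; simp [Matrix.vecMulVec],
      Matrix.mul_vecMulVec, Matrix.vecMulVec_mul] at hM
    obtain ⟨j, hj⟩ := Function.ne_iff.1 hw0
    refine ⟨(w ᵥ* (g : Mat)) j / τ (w j), funext fun i => ?_⟩
    have h := congrFun (congrFun hM i) j
    simp only [Matrix.vecMulVec_apply] at h
    rw [Pi.smul_apply, smul_eq_mul, div_mul_eq_mul_div, eq_div_iff (by simpa using hj), h, mul_comm]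
  have hcol : ∀ a, (fun i => τ ((Pi.single a (1 : F) : V) i)) = Pi.single a 1 := fun a => by
    funext i; simp [Pi.single_apply, apply_ite τ]
  have hoff : ∀ k a : Fin n, k ≠ a → (g : Mat) k a = 0 := by
    intro k a hka
    obtain ⟨μ, hμ⟩ := hline (Pi.single a 1) (fun h => (one_ne_zero : (1 : F) ≠ 0) (by simpa using congrFun h a))
    rw [hcol, Matrix.mulVec_single_one] at hμ
    simpa [hka] using congrFun hμ k
  have hdiag : (g : Mat) = Matrix.diagonal fun i => (g : Mat) i i := by
    ext i j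
    rcases eq_or_ne i j with rfl | hij
    · simp
    · simp [hij, hoff i j hij]
  have key : ∀ a b : Fin n, a ≠ b → ∀ y : F, (g : Mat) b b * τ y = (g : Mat) a a * y := by
    intro a b hab y
    obtain ⟨μ, hμ⟩ := hline (fun i => if i = a then 1 else if i = b then y else 0)
      (fun h => (one_ne_zero : (1 : F) ≠ 0) (by simpa using congrFun h a))
    rw [hdiag] at hμ
    have ea := congrFun hμ a
    have eb := congrFun hμ b
    rw [Matrix.mulVec_diagonal] at ea eb
    simp [hab.symm] at ea eb
    rw [eb, ea]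
  exact descend_eq_one_of_diag (by omega) g τ hoff key

/-- The stabiliser of the fixed points for a diagonal symmetric form. -/
theorem stab_diag (h2 : (2 : F) ≠ 0) (D : Fin n → F) (hD : (B : Mat) = Matrix.diagonal D) (d : MulAut PSLn)
    (hd : ∀ k, gam B k = k → d k = k) : d ^ 2 = 1 := by
  classical
  haveI : Fintype F := Fintype.ofFinite F
  have hD0 : ∀ i, D i ≠ 0 := fun i => by
    have h := ((Matrix.isUnit_iff_isUnit_det (B : Mat)).mp B.isUnit).ne_zero
    rw [hD, Matrix.det_diagonal, Finset.prod_ne_zero_iff] at h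
    exact h i (Finset.mem_univ i)
  have hsum : ∀ f : V, ∀ v : V, (∑ i, v i * (D i * f i)) = v ⬝ᵥ (Matrix.diagonal D *ᵥ f) := fun f v => by
    simp [dotProduct, Matrix.mulVec_diagonal]
  obtain ⟨e, g, τ, hee, rfl, hd2⟩ := exists_sq r hn B d hd
  rw [sq, ← map_mul, hee]
  have third : ∀ a b : Fin n, ∃ k : Fin n, k ≠ a ∧ k ≠ b := by
    intro a b
    by_contra hcon
    push Not at hcon
    have : (Finset.univ : Finset (Fin n)) ⊆ {a, b} := fun i _ => by
      by_cases hi : i = a
      · simp [hi]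
      · simp [hcon i hi]
    have := (Finset.card_le_card this).trans Finset.card_le_two
    simp at this
    omega
  have hone : (-1 : F) ≠ 1 := fun h => h2 (by linear_combination -h)
  -- the monomial part
  have hoff : ∀ i j : Fin n, i ≠ j → (g : Mat) i j = 0 := by
    intro i j hij
    obtain ⟨k, hki, hkj⟩ := third i j
    let δ : Fin n → F := fun x => if x = i ∨ x = k then -1 else 1
    have hdet : (Matrix.diagonal δ).det = 1 := by
      rw [Matrix.det_diagonal, Fintype.prod_eq_mul i k hki.symm fun x hx => by simp [δ, hx.1, hx.2]]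
      simp [δ]
    let s : SLn := ⟨Matrix.diagonal δ, hdet⟩
    have hδ : ∀ x, δ x * δ x = 1 := fun x => by simp only [δ]; split_ifs <;> ring
    have hmem : Matrix.SpecialLinearGroup.toGL s ∈ isom (B : Mat) := by
      rw [mem_isom]
      show (Matrix.diagonal δ)ᵀ * (B : Mat) * Matrix.diagonal δ = _
      rw [hD, Matrix.diagonal_transpose, Matrix.diagonal_mul_diagonal, Matrix.diagonal_mul_diagonal]
      congr 1
      funext x
      linear_combination D x * hδ x
    have hs2 : s * s = 1 := Subtype.ext (by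
      show Matrix.diagonal δ * Matrix.diagonal δ = 1
      rw [Matrix.diagonal_mul_diagonal, ← Matrix.diagonal_one]
      exact congrArg _ (funext hδ))
    have h := apply_mul_right g τ s
    rw [← hee, sq_fix_invol r hn B hd hmem hs2] at h
    have h' := congrFun (congrFun h i) j
    have hmap : (Matrix.diagonal δ).map τ = Matrix.diagonal δ := by
      rw [Matrix.diagonal_map (map_zero _)]
      congr 1
      funext x
      simp only [δ, Function.comp_apply]
      split_ifs <;> simp
    rw [show (s : Mat) = Matrix.diagonal δ from rfl, hmap, Matrix.diagonal_mul, Matrix.mul_diagonal] at h'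
    have e1 : δ i = -1 := by simp [δ]
    have e2 : δ j = 1 := by simp [δ, hij.symm, hkj.symm]
    rw [e1, e2] at h'
    exact (mul_eq_zero.1 (show (2 : F) * (g : Mat) i j = 0 by linear_combination -h')).resolve_left h2
  have hg0 : ∀ i, (g : Mat) i i ≠ 0 := fun i e => by
    refine ((Matrix.isUnit_iff_isUnit_det (g : Mat)).mp g.isUnit).ne_zero
      (Matrix.det_eq_zero_of_column_eq_zero i fun k => ?_)
    by_cases h : k = i
    · rw [h, e]
    · exact hoff k i h
  -- products of two reflections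
  have refl2 : ∀ (v : V) (a : Fin n) (k : Fin n), (∑ i, v i * (D i * v i)) ≠ 0 → k ≠ a →
      (1 - 2 / (∑ i, v i * (D i * v i)) * (v k * (D k * v k)) = 1 ∨
        1 - 2 / (∑ i, v i * (D i * v i)) * (v k * (D k * v k)) = -1) →
      ∀ i j : Fin n, j ≠ a →
        (g : Mat) i i * τ ((if i = j then 1 else 0) - 2 / (∑ i, v i * (D i * v i)) * (v i * (D j * v j))) =
          ((if i = j then 1 else 0) - 2 / (∑ i, v i * (D i * v i)) * (v i * (D j * v j))) * (g : Mat) j j := by
    intro v a k hQ hka hkk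
    set Q := ∑ i, v i * (D i * v i) with hQdef
    set w : V := fun i => D i * v i with hw
    let δ : Fin n → F := fun x => if x = a then -1 else 1
    let X : Mat := (-(2 / Q)) • Matrix.vecMulVec v w
    let M : Mat := (1 + X) * Matrix.diagonal δ
    have hwv : w ⬝ᵥ v = Q := by
      rw [hQdef, dotProduct]
      exact Finset.sum_congr rfl fun i _ => by simp [hw]; ring
    have hdet : M.det = 1 := by
      rw [Matrix.det_mul, Matrix.det_diagonal, Fintype.prod_eq_single a fun x hx => by simp [δ, hx]]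
      rw [show (1 + X).det = 1 + w ⬝ᵥ ((-(2 / Q)) • v) by
        show (1 + (-(2 / Q)) • Matrix.vecMulVec v w).det = _
        rw [← Matrix.smul_vecMulVec, Matrix.vecMulVec_eq (ι := Unit),
          Matrix.det_one_add_replicateCol_mul_replicateRow]]
      rw [dotProduct_smul, hwv, smul_eq_mul]
      simp only [δ, if_true]
      field_simp
      ring
    let s : SLn := ⟨M, hdet⟩
    have hBX : (B : Mat) * X = (-(2 / Q)) • Matrix.vecMulVec w w := by
      rw [show X = (-(2 / Q)) • Matrix.vecMulVec v w from rfl, Matrix.mul_smul, Matrix.mul_vecMulVec, hD]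
      congr 2
      funext x
      rw [Matrix.mulVec_diagonal]
    have hXB : Xᵀ * (B : Mat) = (-(2 / Q)) • Matrix.vecMulVec w w := by
      have hBt : (B : Mat)ᵀ = B := by rw [hD, Matrix.diagonal_transpose]
      have := congrArg Matrix.transpose hBX
      rw [Matrix.transpose_mul, hBt, Matrix.transpose_smul _ (Matrix.vecMulVec w w),
        Matrix.transpose_vecMulVec w w] at this
      exact this
    have hmem : Matrix.SpecialLinearGroup.toGL s ∈ isom (B : Mat) := by
      rw [mem_isom]
      show Mᵀ * (B : Mat) * M = _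
      have e1 : (1 + X)ᵀ * (B : Mat) * (1 + X) = (B : Mat) := by
        rw [Matrix.transpose_add, Matrix.transpose_one, add_mul, one_mul, hXB, mul_add, mul_one, add_mul, hBX,
          show ((-(2 / Q)) • Matrix.vecMulVec w w) * X = ((-(2 / Q)) * (-(2 / Q)) * Q) • Matrix.vecMulVec w w by
            show _ * ((-(2 / Q)) • Matrix.vecMulVec v w) = _
            rw [Matrix.smul_mul, Matrix.mul_smul, Matrix.vecMulVec_mul_vecMulVec, hwv, Matrix.vecMulVec_smul,
              smul_smul, smul_smul]]
        rw [add_assoc, add_eq_left, ← add_smul, ← add_smul]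
        convert zero_smul F (Matrix.vecMulVec w w)
        field_simp
        ring
      have e2 : (Matrix.diagonal δ)ᵀ * (B : Mat) * Matrix.diagonal δ = (B : Mat) := by
        rw [hD, Matrix.diagonal_transpose, Matrix.diagonal_mul_diagonal, Matrix.diagonal_mul_diagonal]
        congr 1
        funext x
        simp only [δ]
        split_ifs <;> ring
      rw [Matrix.transpose_mul,
        show (Matrix.diagonal δ)ᵀ * (1 + X)ᵀ * (B : Mat) * ((1 + X) * Matrix.diagonal δ) =
          (Matrix.diagonal δ)ᵀ * ((1 + X)ᵀ * (B : Mat) * (1 + X)) * Matrix.diagonal δ by noncomm_ring, e1, e2]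
    obtain ⟨z, hz, he⟩ := exists_smul_of_fix r hn B hd2 hmem
    rw [Matrix.SpecialLinearGroup.mem_center_iff] at hz
    obtain ⟨c, -, hc⟩ := hz
    have h := apply_mul_right g τ s
    rw [he, Matrix.SpecialLinearGroup.coe_mul, ← hc] at h
    have hM : ∀ i j, M i j = ((if i = j then 1 else 0) - 2 / Q * (v i * (D j * v j))) * δ j := fun i j => by
      simp only [M, X, Matrix.mul_diagonal, Matrix.add_apply, Matrix.smul_apply, Matrix.vecMulVec_apply,
        Matrix.one_apply, smul_eq_mul, hw]
      ring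
    have hentry : ∀ i j, c * M i j * (g : Mat) j j = (g : Mat) i i * τ (M i j) := by
      intro i j
      have h' := congrFun (congrFun h i) j
      rw [show (s : Mat) = M from rfl, Matrix.scalar_apply, Matrix.mul_assoc, Matrix.diagonal_mul,
        Matrix.mul_apply, Finset.sum_eq_single j (fun x _ hx => by rw [hoff x j hx, mul_zero])
          (fun hx => absurd (Finset.mem_univ _) hx),
        Matrix.mul_apply, Finset.sum_eq_single i (fun x _ hx => by rw [hoff i x (Ne.symm hx), zero_mul])
          (fun hx => absurd (Finset.mem_univ _) hx), Matrix.map_apply, ← mul_assoc] at h'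
      exact h'
    have hc1 : c = 1 := by
      have hk := hentry k k
      have hMk : M k k = 1 ∨ M k k = -1 := by
        rw [hM, if_pos rfl, show δ k = 1 by simp [δ, hka], mul_one]
        exact hkk
      rcases hMk with e | e <;> rw [e] at hk <;> simp only [map_neg, map_one, mul_neg, neg_mul, mul_one, neg_inj] at hk
      · exact mul_right_cancel₀ (hg0 k) (hk.trans (one_mul _).symm)
      · exact mul_right_cancel₀ (hg0 k) (hk.trans (one_mul _).symm)
    intro i j hja
    have := hentry i j
    rw [hc1, one_mul, hM, show δ j = 1 by simp [δ, hja], mul_one] at this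
    exact this.symm
  -- equal diagonal entries for `τ` fixing the relevant scalars
  have hsq : ∀ a b : Fin n, a ≠ b → ∀ t : F, τ (D b / D a * (t * t)) = D b / D a * (t * t) := by
    intro a b hab t
    by_cases hQ0 : D a + D b * (t * t) = 0
    · have : D b / D a * (t * t) = -1 := by
        field_simp [hD0 a]
        linear_combination hQ0
      rw [this, map_neg, map_one]
    obtain ⟨k, hka, hkb⟩ := third a b
    let v : V := fun i => if i = a then 1 else if i = b then t else 0
    have hQv : ∑ i, v i * (D i * v i) = D a + D b * (t * t) := by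
      rw [Fintype.sum_eq_add a b hab fun i hi => by simp [v, hi.1, hi.2]]
      simp [v, hab.symm]
      ring
    have h := refl2 v b k (by rw [hQv]; exact hQ0) hkb (Or.inl (by simp [v, hka, hkb])) a a hab
    rw [if_pos rfl, hQv, show v a = 1 by simp [v], one_mul, mul_one, mul_comm] at h
    have h1 := mul_right_cancel₀ (hg0 a) h
    rw [map_sub, map_one, sub_right_inj, map_mul, map_div₀, map_ofNat] at h1
    field_simp at h1
    have e : τ ((D a + D b * (t * t)) / D a) = (D a + D b * (t * t)) / D a := by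
      have h1' := congrArg (·⁻¹) h1
      simpa [inv_div, map_div₀, sq] using h1'
    rw [add_div, div_self (hD0 a), map_add, map_one, add_right_inj, mul_div_right_comm] at e
    exact e
  have hτ : τ = RingEquiv.refl F := by
    obtain ⟨a, b, hab, u, hu⟩ : ∃ a b : Fin n, a ≠ b ∧ IsSquare (D b / D a) ∧ True := by
      let i0 : Fin n := ⟨0, by omega⟩
      let i1 : Fin n := ⟨1, by omega⟩
      let i2 : Fin n := ⟨2, by omega⟩
      by_cases h01 : IsSquare (D i1 / D i0)
      · exact ⟨i0, i1, fun e => by simpa [i0, i1] using congrArg Fin.val e, h01, trivial⟩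
      by_cases h02 : IsSquare (D i2 / D i0)
      · exact ⟨i0, i2, fun e => by simpa [i0, i2] using congrArg Fin.val e, h02, trivial⟩
      refine ⟨i1, i2, fun e => by simpa [i1, i2] using congrArg Fin.val e, ?_, trivial⟩
      have hr2 : ringChar F ≠ 2 := Spinor.ringChar_ne_two h2
      have hx : ∀ i j : Fin n, D i / D j ≠ 0 := fun i j => div_ne_zero (hD0 i) (hD0 j)
      rw [← quadraticChar_neg_one_iff_not_isSquare] at h01 h02
      rw [← quadraticChar_one_iff_isSquare (hx _ _)]
      have : D i2 / D i1 = (D i2 / D i0) * (D i1 / D i0) * ((D i0 / D i1) * (D i0 / D i1)) := by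
        field_simp [hD0]
      rw [this, map_mul, map_mul, h01, h02, map_mul, ← sq (quadraticChar F _), quadraticChar_sq_one (hx _ _)]
      norm_num
    obtain ⟨u, hu⟩ := u
    have hu0 : u ≠ 0 := fun e => div_ne_zero (hD0 b) (hD0 a) (by rw [hu, e, mul_zero])
    refine (AutPOmega.ringAut_eq_one_of_sq h2 fun y => ?_)
    have h := hsq a b hab (y / u)
    rwa [hu, show u * u * (y / u * (y / u)) = y * y by field_simp] at h
  have heq : ∀ a b : Fin n, a ≠ b → (g : Mat) a a = (g : Mat) b b := by
    intro a b hab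
    obtain ⟨k, hka, hkb⟩ := third a b
    let v : V := fun i => if i = a ∨ i = b then 1 else if i = k ∧ D a + D b = 0 then 1 else 0
    have hva : v a = 1 := by simp [v]
    have hvb : v b = 1 := by simp [v]
    have hQv : ∑ i, v i * (D i * v i) = if D a + D b = 0 then D k else D a + D b := by
      rw [← Finset.sum_subset (Finset.subset_univ ({a, b, k} : Finset (Fin n)))
        (fun i _ hi => by simp at hi; simp [v, hi.1, hi.2.1, hi.2.2]),
        Finset.sum_insert (by simp [hab, hka.symm]), Finset.sum_insert (by simp [hkb.symm]), Finset.sum_singleton,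
        hva, hvb]
      split_ifs with h
      · simp [v, hka, hkb, h]
        linear_combination h
      · simp [v, hka, hkb, h]
    obtain ⟨Q, hQ, hQ0⟩ : ∃ Q, (∑ i, v i * (D i * v i)) = Q ∧ Q ≠ 0 :=
      ⟨_, hQv, by split_ifs with h; exacts [hD0 k, h]⟩
    have hkk : 1 - 2 / Q * (v k * (D k * v k)) = 1 ∨ 1 - 2 / Q * (v k * (D k * v k)) = -1 := by
      by_cases h : D a + D b = 0
      · refine Or.inr ?_
        rw [if_pos h, hQ] at hQv
        simp [v, hka, hkb, h, hQv]
        field_simp [hD0 k]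
        ring
      · exact Or.inl (by simp [v, hka, hkb, h])
    have h := refl2 v a k (by rw [hQ]; exact hQ0) hka (by rw [hQ]; exact hkk) a b hab.symm
    rw [hQ, hτ, RingEquiv.refl_apply, if_neg hab, hva, hvb, zero_sub, mul_comm] at h
    refine mul_left_cancel₀ ?_ h
    rw [neg_ne_zero]
    exact mul_ne_zero (div_ne_zero h2 hQ0) (by simpa using hD0 b)
  exact descend_eq_one_of_diag (by omega) g τ hoff fun a b hab y => by
    rw [hτ, heq a b hab]; rfl

/-- The isometries of odd order of the core. -/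
theorem core_fix (h2 : r ≠ 2) (hodd : ∀ N : Subgroup GLn, N ≤ isom (B : Mat) → Odd (Nat.card N) →
      (∀ w ∈ isom (B : Mat), ∀ g ∈ N, w * g * w⁻¹ ∈ N) → N = ⊥) :
    Cfsg.pPrimeCore 2 ↥(Fix (gam B)) = ⊥ := by
  haveI : Fact (Nat.Prime 2) := ⟨Nat.prime_two⟩
  have hinj := conj_injective (F := F) r (by omega : 2 ≤ n)
  set R := Cfsg.pPrimeCore 2 ↥(Fix (gam B))
  have hRodd : Odd (Nat.card R) := Nat.odd_iff.2 (Nat.two_dvd_ne_zero.1 Components.pPrimeCore_not_dvd)
  let CR : Subgroup (MulAut PSLn) := R.map ((MulAut.conj : PSLn →* MulAut PSLn).comp (Fix (gam B)).subtype)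
  have hCR : Odd (Nat.card CR) := hRodd.of_dvd_nat (Subgroup.card_map_dvd _ _)
  let S : Subgroup GLn := isom (B : Mat) ⊓ CR.comap (cjD n F)
  let π : S →* MulAut PSLn := (cjD n F).comp S.subtype
  have hker : ∀ g : S, π g = 1 → ((g : GLn) : GLn) ∈ Subgroup.center GLn := fun g hg =>
    (descend_cj_eq_one_iff r (by omega : 2 ≤ n) _).1 hg
  have hker2 : ∀ g : S, π g = 1 → g * g = 1 := fun g hg => by
    obtain ⟨c, hc⟩ := scalar_of_center (hker g hg)
    refine Subtype.ext (Units.ext ?_)
    have h := mem_isom.1 g.2.1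
    rw [hc, Matrix.transpose_smul, Matrix.transpose_one, Matrix.smul_mul, one_mul, Matrix.smul_mul,
      Matrix.mul_smul, mul_one, smul_smul] at h
    have hc2 : (c : F) * c = 1 := by
      by_contra hne
      have h0 : ((c : F) * c - 1) • (B : Mat) = 0 := by rw [sub_smul, one_smul, h, sub_self]
      rcases smul_eq_zero.1 h0 with h | h
      · exact hne (sub_eq_zero.1 h)
      · haveI : Nonempty (Fin n) := ⟨⟨0, by omega⟩⟩
        exact B.ne_zero h
    show ((g : GLn) : Mat) * ((g : GLn) : Mat) = 1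
    rw [hc, Matrix.smul_mul, Matrix.mul_smul, one_mul, smul_smul, hc2, one_smul]
  have hZ : π.ker ≤ Subgroup.center S := fun g hg => Subgroup.mem_center_iff.2 fun x =>
    Subtype.ext (Subgroup.mem_center_iff.1 (hker g hg) (x : GLn))
  haveI : π.ker.FiniteIndex := inferInstance
  have hidx : Odd π.ker.index := by
    rw [Subgroup.index_ker]
    exact hCR.of_dvd_nat (Subgroup.card_dvd_of_le (by rintro _ ⟨g, rfl⟩; exact g.2.2))
  -- the power map is a homomorphism
  letI : CommGroup (Subgroup.center S) :=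
    { (inferInstance : Group (Subgroup.center S)) with
      mul_comm := fun a b => Subtype.ext (Subgroup.mem_center_iff.1 b.2 a) }
  let T : S →* Subgroup.center S := MonoidHom.transfer (Subgroup.inclusion hZ)
  have hT : ∀ g : S, ((T g : S)) = g ^ π.ker.index := fun g => by
    show ((MonoidHom.transfer (Subgroup.inclusion hZ) g : Subgroup.center S) : S) = _
    rw [MonoidHom.transfer_eq_pow _ g fun k g₀ hk => by
      have h := Subgroup.mem_center_iff.1 (hZ hk) g₀
      calc g₀⁻¹ * g ^ k * g₀ = g₀ * (g₀⁻¹ * g ^ k * g₀) * g₀⁻¹ := by rw [h, mul_inv_cancel_right]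
        _ = g ^ k := by group]
    rfl
  let N : Subgroup GLn := T.ker.map S.subtype
  have hN : ∀ g : S, (g : GLn) ∈ N ↔ g ^ π.ker.index = 1 := fun g => by
    show (g : GLn) ∈ T.ker.map S.subtype ↔ _
    rw [← hT, OneMemClass.coe_eq_one]
    exact (Subgroup.mem_map_iff_mem (K := T.ker) (f := S.subtype) S.subtype_injective).trans MonoidHom.mem_ker
  have hNle : N ≤ S := Subgroup.map_subtype_le _
  have hNbot : N = ⊥ := by
    refine hodd N (hNle.trans inf_le_left) ?_ fun w hw g hg => ?_
    · rw [← Nat.not_even_iff_odd, even_iff_two_dvd]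
      intro hdvd
      obtain ⟨⟨g, hg⟩, ho⟩ := exists_prime_orderOf_dvd_card' (G := N) 2 hdvd
      have h1 : (⟨g, hNle hg⟩ : S) ^ 2 = 1 := Subtype.ext (by
        have h0 : (⟨g, hg⟩ : N) ^ orderOf (⟨g, hg⟩ : N) = 1 := pow_orderOf_eq_one _
        rw [ho] at h0
        exact congrArg (Subtype.val (p := fun x => x ∈ N)) h0)
      have h3 := eq_one_of_odd_pow hidx ((hN ⟨g, hNle hg⟩).1 hg) h1
      have h4 : (⟨g, hg⟩ : N) = 1 := Subtype.ext (congrArg Subtype.val h3 :)
      rw [h4, orderOf_one] at ho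
      exact absurd ho (by norm_num)
    · have hgS := hNle hg
      have hc : Commute (cjD n F w) (gam B) := (commute_gam_iff r hn w B).2 (isom_le_simB hw)
      have hmem : w * g * w⁻¹ ∈ S := by
        refine ⟨(isom (B : Mat)).mul_mem ((isom (B : Mat)).mul_mem hw hgS.1) ((isom (B : Mat)).inv_mem hw), ?_⟩
        obtain ⟨k, hk, e⟩ := hgS.2
        refine ⟨restrictFix (cjD n F w) (gam B) hc k, ?_, ?_⟩
        · have := Components.map_pPrimeCore_equiv (p := 2) (restrictFix (cjD n F w) (gam B) hc)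
          rw [← show R.map _ = R from this]
          exact ⟨k, hk, rfl⟩
        · rw [map_mul, map_mul, map_inv]
          show MulAut.conj (cjD n F w k.1) = _
          rw [← aut_conj, ← e]
          rfl
      refine (hN ⟨_, hmem⟩).2 (Subtype.ext ?_)
      have := congrArg Subtype.val ((hN ⟨g, hgS⟩).1 hg)
      rw [SubmonoidClass.coe_pow] at this ⊢
      show (w * g * w⁻¹) ^ _ = 1
      rw [conj_pow, show g ^ π.ker.index = 1 from this, mul_one, mul_inv_cancel]
  refine (eq_bot_iff (α := Subgroup ↥(Fix (gam B)))).2 fun k hk => ?_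
  obtain ⟨s, hs⟩ := proj_surjective k.1
  have hfix : gam B (proj n F s) = proj n F s := by rw [hs]; exact k.2
  obtain ⟨c, hc⟩ := (mem_simB _ _).1 ((fix_gam_iff r hn B s).1 hfix)
  set x := Matrix.SpecialLinearGroup.toGL s
  let t : GLn := x ^ 2 * scal c⁻¹
  have htE : t ∈ isom (B : Mat) := by
    rw [mem_isom]
    show ((x ^ 2 * scal c⁻¹ : GLn) : Mat)ᵀ * _ * _ = _
    rw [Units.val_mul, scalar_coe, Matrix.mul_smul, mul_one, Matrix.transpose_smul, Matrix.smul_mul, Matrix.smul_mul,
      Matrix.mul_smul, smul_smul, sq, Units.val_mul, Matrix.transpose_mul,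
      show (x : Mat)ᵀ * (x : Mat)ᵀ * (B : Mat) * ((x : Mat) * (x : Mat)) =
        (x : Mat)ᵀ * ((x : Mat)ᵀ * (B : Mat) * (x : Mat)) * (x : Mat) by noncomm_ring, hc, Matrix.mul_smul,
      Matrix.smul_mul, hc, smul_smul, smul_smul]
    convert one_smul F (B : Mat) using 2
    rw [Units.val_inv_eq_inv_val]
    field_simp [c.ne_zero]
  have htimg : cjD n F t = MulAut.conj (k.1 * k.1) := by
    rw [map_mul, map_pow, cjD_toGL, hs, sq, ← map_mul,
      show cjD n F (scal c⁻¹) = 1 from (descend_cj_eq_one_iff r (by omega) _).2 (scalar_mem_center _), mul_one]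
  have htS : t ∈ S := ⟨htE, ⟨k * k, mul_mem hk hk, htimg.symm⟩⟩
  have hz : π ((⟨t, htS⟩ : S) ^ π.ker.index) = 1 :=
    MonoidHom.mem_ker.1 (MonoidHom.transfer_eq_pow_aux _ fun i g₀ hi => by
      have h := Subgroup.mem_center_iff.1 (hZ hi) g₀
      calc g₀⁻¹ * (⟨t, htS⟩ : S) ^ i * g₀ = g₀ * (g₀⁻¹ * (⟨t, htS⟩ : S) ^ i * g₀) * g₀⁻¹ := by
            rw [h, mul_inv_cancel_right]
        _ = (⟨t, htS⟩ : S) ^ i := by group)
  have ht2 : t * t = 1 := by
    have : ((⟨t, htS⟩ * ⟨t, htS⟩ : S) : GLn) ∈ N := by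
      rw [hN, ← sq, ← pow_mul, mul_comm, pow_mul, sq]
      exact hker2 _ hz
    rwa [hNbot, Subgroup.mem_bot] at this
  have hk4 : (k : ↥(Fix (gam B))) ^ 2 ^ 2 = 1 := Subtype.ext (hinj (by
    rw [OneMemClass.coe_one, map_one, SubmonoidClass.coe_pow, show (2 : ℕ) ^ 2 = 2 * 2 from rfl, pow_mul, sq, sq,
      map_mul, ← htimg, ← map_mul, ht2, map_one]))
  have h1 : orderOf (⟨k, hk⟩ : R) ∣ 2 ^ 2 := orderOf_dvd_of_pow_eq_one (Subtype.ext hk4)
  have h4 : Nat.Coprime (Nat.card R) (2 ^ 2) := Nat.Coprime.pow_right 2 hRodd.coprime_two_right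
  exact Subgroup.mem_bot.2 (congrArg Subtype.val (orderOf_eq_one_iff.1
    (Nat.eq_one_of_dvd_coprimes h4 (orderOf_dvd_natCard _) h1)))

theorem odd_skew (hr2 : r ≠ 2) (hB : (B : Mat)ᵀ = -(B : Mat)) (N : Subgroup GLn) (hle : N ≤ isom (B : Mat))
    (hodd : Odd (Nat.card N)) (hnorm : ∀ w ∈ isom (B : Mat), ∀ g ∈ N, w * g * w⁻¹ ∈ N) : N = ⊥ := by
  classical
  haveI : Fintype F := Fintype.ofFinite F
  have h2 : (2 : F) ≠ 0 := Ring.two_ne_zero (by rw [ringChar.eq F r]; exact hr2)
  have halt : ∀ x : V, x ⬝ᵥ ((B : Mat) *ᵥ x) = 0 := fun x => by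
    have h : x ⬝ᵥ ((B : Mat) *ᵥ x) = -(x ⬝ᵥ ((B : Mat) *ᵥ x)) := by
      conv_lhs => rw [Matrix.dotProduct_mulVec, ← Matrix.mulVec_transpose, hB, Matrix.neg_mulVec,
        neg_dotProduct, dotProduct_comm]
    exact (mul_eq_zero.1 (show (2 : F) * _ = 0 by linear_combination h)).resolve_left h2
  obtain ⟨m, hnm⟩ : ∃ m, n = 2 * m := by
    rcases Nat.even_or_odd n with ⟨m, hm⟩ | ho
    · exact ⟨m, by omega⟩
    · exfalso
      have h := congrArg Matrix.det hB
      rw [Matrix.det_transpose, Matrix.det_neg, Fintype.card_fin, ho.neg_one_pow, neg_one_mul] at h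
      have : (2 : F) * (B : Mat).det = 0 := by linear_combination h
      exact ((Matrix.isUnit_iff_isUnit_det _).1 B.isUnit).ne_zero ((mul_eq_zero.1 this).resolve_left h2)
  have hm : 1 ≤ m := by omega
  obtain ⟨L, d, hd⟩ := hasModel_alt hnm B halt
  let toGL' : Matrix.symplecticGroup (Fin m) F →* GL (Fin m ⊕ Fin m) F :=
    (Units.map (Matrix.symplecticGroup (Fin m) F).subtype).comp toUnits.toMonoidHom
  let ψ := (glCongr L).toMonoidHom.comp toGL'
  have hψ : Function.Injective ψ := fun a b h => Subtype.ext (congrArg Units.val ((glCongr L).injective h) :)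
  have hmemE : ∀ s, ψ s ∈ isom (B : Mat) := fun s => by
    have := (glCongr_simB hd (toGL' s) 1).2 fun u v => by
      rw [Units.val_one, one_mul]
      have := (FormsLib.mem_symplectic_iff _).1 s.2 u v
      rw [FormsLib.spB_apply, FormsLib.spB_apply] at this
      exact this
    rw [Units.val_one, one_smul] at this
    exact this
  have hsurj : ∀ g ∈ isom (B : Mat), ∃ s, ψ s = g := fun g hg => by
    obtain ⟨g', rfl⟩ := (glCongr L).surjective g
    have h := (glCongr_simB hd g' 1).1 (by rw [Units.val_one, one_smul]; exact hg)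
    refine ⟨⟨(g' : Matrix (Fin m ⊕ Fin m) (Fin m ⊕ Fin m) F), (FormsLib.mem_symplectic_iff _).2 fun u v => ?_⟩,
      congrArg (glCongr L) (Units.ext rfl)⟩
    rw [FormsLib.spB_apply, FormsLib.spB_apply]
    exact (h u v).trans (by rw [Units.val_one, one_mul]; rfl)
  let N' := N.comap ψ
  haveI hN'n : N'.Normal := ⟨fun g hg w => by
    show ψ (w * g * w⁻¹) ∈ N
    rw [map_mul, map_mul, map_inv]
    exact hnorm _ (hmemE w) _ hg⟩
  have hN'odd : Odd (Nat.card N') := hodd.of_dvd_nat (Subgroup.card_comap_dvd_of_injective N ψ hψ)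
  have hone : ∀ g ∈ N', g * g = 1 → g = 1 := fun g hg h => OddCoreForms.eq_one_of_sq N' hN'odd hg h
  have hneg : (-1 : Matrix (Fin m ⊕ Fin m) (Fin m ⊕ Fin m) F) ≠ 1 := fun h => h2 (by
    have := congrFun (congrFun h (.inl ⟨0, hm⟩)) (.inl ⟨0, hm⟩)
    simp at this
    linear_combination -this)
  rw [eq_bot_iff]
  intro g hg
  obtain ⟨s, rfl⟩ := hsurj g (hle hg)
  rw [Subgroup.mem_bot]
  suffices s = 1 by rw [this, map_one]
  rcases S2730.central_or_commutator hm N' with hc | hc
  · refine hone s hg (Subtype.ext ?_)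
    rcases AutPSp.mem_center_iff.1 (hc hg) with h | h <;> simp [h]
  · exfalso
    let j : Matrix.symplecticGroup (Fin m) F := ⟨Matrix.J (Fin m) F, SymplecticGroup.J_mem _ _⟩
    have hj2 : ((j * j : Matrix.symplecticGroup (Fin m) F) : Matrix (Fin m ⊕ Fin m) (Fin m ⊕ Fin m) F) = -1 := (Submonoid.coe_mul _ j j).trans (Matrix.J_squared _ _)
    have hjr : j ^ r ∈ N' := hc (S2730.pow_char_mem_commutator r j)
    have h := hone _ (mul_mem hjr hjr) (Subtype.ext (by
      rw [← (Commute.refl j).mul_pow, ← (Commute.refl (j * j)).mul_pow, SubmonoidClass.coe_pow, Submonoid.coe_mul,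
        hj2, neg_one_mul, neg_neg, one_pow, OneMemClass.coe_one]))
    have h' := congrArg Subtype.val h
    rw [← (Commute.refl j).mul_pow, SubmonoidClass.coe_pow, hj2,
      ((Fact.out : r.Prime).odd_of_ne_two hr2).neg_one_pow] at h'
    exact hneg h'

theorem odd_symm (hr2 : r ≠ 2) (hB : (B : Mat)ᵀ = (B : Mat)) (N : Subgroup GLn) (hle : N ≤ isom (B : Mat))
    (hodd : Odd (Nat.card N)) (hnorm : ∀ w ∈ isom (B : Mat), ∀ g ∈ N, w * g * w⁻¹ ∈ N) : N = ⊥ := by
  have h2 : (2 : F) ≠ 0 := Ring.two_ne_zero (by rw [ringChar.eq F r]; exact hr2)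
  obtain ⟨q, hq, hp, hnd⟩ := exists_quad_of_symm h2 B hB
  let ψ : GLn ≃* (V ≃ₗ[F] V) :=
    Matrix.GeneralLinearGroup.toLin.trans (LinearMap.GeneralLinearGroup.generalLinearEquiv F V)
  have hψ : ∀ (g : GLn) (v : V), ψ g v = (g : Mat) *ᵥ v := fun g v => rfl
  have hiso : ∀ g : GLn, g ∈ isom (B : Mat) ↔ ψ g ∈ FormsLib.oGroup q := fun g => by
    constructor
    · intro h v
      rw [hψ, hq, hq, form_mulVec, mem_isom.1 h]
    · intro h
      refine ext_form fun u v => mul_left_cancel₀ h2 ?_
      rw [← form_mulVec, ← hp, ← hp, ← hψ, ← hψ]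
      exact FormsLib.polar_of_mem h u v
  have h := OddCoreForms.odd_core_orth h2 n (Q := q) hnd (Module.finrank_fin_fun F) hn (N.map ψ.toMonoidHom)
    (by rintro _ ⟨g, hg, rfl⟩; exact (hiso g).1 (hle hg))
    (by rwa [Subgroup.card_map_of_injective ψ.injective])
    (by
      rintro v hv _ ⟨g, hg, rfl⟩
      obtain ⟨w, hw⟩ := ψ.surjective (FormsLib.refl q v hv)
      refine ⟨w * g * w⁻¹, hnorm w ((hiso w).2 (hw ▸ FormsLib.refl_mem q hv)) g hg, ?_⟩
      show ψ (w * g * w⁻¹) = _
      rw [map_mul, map_mul, map_inv, hw, FormsLib.refl_inv]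
      rfl)
  exact (Subgroup.map_eq_bot_iff_of_injective _ ψ.injective).1 h

/-- The core is trivial. -/
theorem graph_core (hr2 : r ≠ 2) (hB : (B : Mat)ᵀ = (B : Mat) ∨ (B : Mat)ᵀ = -(B : Mat))
    (A : Subgroup (MulAut PSLn)) (hinn : ∀ k, MulAut.conj k ∈ A) :
    Cfsg.pPrimeCore 2 ↥(A ⊓ Subgroup.centralizer {gam B}) = ⊥ := by
  haveI : Fact (Nat.Prime 2) := ⟨Nat.prime_two⟩
  have hinj := conj_injective (F := F) r (by omega : 2 ≤ n)
  have h2 : (2 : F) ≠ 0 := Ring.two_ne_zero (by rw [ringChar.eq F r]; exact hr2)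
  rcases hB with hB | hB
  swap
  · exact core_eq_bot A hinn _ hinj 2 (core_fix r hn B hr2 (odd_skew r hn B hr2 hB))
      fun d _ hd => stab_skew r hn B h2 hB d hd
  -- diagonalise
  haveI : Invertible (2 : F) := invertibleOfNonzero h2
  let f : LinearMap.BilinForm F V := Matrix.toBilin' (B : Mat)
  have hf : LinearMap.IsSymm f := ⟨fun u v => by
    simp only [f, Matrix.toBilin'_apply', RingHom.id_apply]
    rw [Matrix.dotProduct_mulVec, ← Matrix.mulVec_transpose, hB, dotProduct_comm]⟩
  obtain ⟨b, hb⟩ := LinearMap.BilinForm.exists_orthogonal_basis hf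
  let b' := b.reindex (finCongr (Module.finrank_fin_fun F))
  let P : GLn := Units.mk ((Pi.basisFun F (Fin n)).toMatrix b') (b'.toMatrix (Pi.basisFun F (Fin n)))
    ((Pi.basisFun F (Fin n)).toMatrix_mul_toMatrix_flip b') (b'.toMatrix_mul_toMatrix_flip _)
  have hcol : ∀ j, (P : Mat) *ᵥ Pi.single j 1 = b' j := fun j => by
    rw [Matrix.mulVec_single_one]
    funext i
    rfl
  let D : Fin n → F := fun i => b' i ⬝ᵥ ((B : Mat) *ᵥ b' i)
  have hPBP : (P : Mat)ᵀ * (B : Mat) * (P : Mat) = Matrix.diagonal D := by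
    refine ext_form fun u v => ?_
    rw [← form_mulVec]
    have hbl : ∀ i j, b' i ⬝ᵥ ((B : Mat) *ᵥ b' j) = if i = j then D i else 0 := fun i j => by
      split_ifs with h
      · subst h; rfl
      · have := hb (show (finCongr (Module.finrank_fin_fun F)).symm i ≠ (finCongr (Module.finrank_fin_fun F)).symm j
          by simpa using h)
        simpa [f, LinearMap.IsOrthoᵢ, Function.onFun, Matrix.toBilin'_apply', b'] using this
    have hexp : ∀ u : V, (P : Mat) *ᵥ u = ∑ i, u i • b' i := fun u => by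
      conv_lhs => rw [pi_eq_sum_univ' u]
      simp only [Matrix.mulVec_sum, Matrix.mulVec_smul, hcol]
    rw [hexp u, hexp v]
    simp only [sum_dotProduct, Matrix.mulVec_sum, dotProduct_sum, smul_dotProduct, Matrix.mulVec_smul,
      dotProduct_smul, hbl, smul_eq_mul, mul_ite, mul_zero, Finset.sum_ite_eq, Finset.mem_univ, if_true]
    simp [dotProduct, Matrix.mulVec_diagonal]
    exact Finset.sum_congr rfl fun i _ => by ring
  set D' := glItp P⁻¹ * B * (P⁻¹)⁻¹ with hD'def
  have hD' : (D' : Mat) = Matrix.diagonal D := by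
    rw [hD'def, Units.val_mul, Units.val_mul, glItp_val, inv_inv, hPBP]
  have hconj : cjD n F P⁻¹ * gam B * (cjD n F P⁻¹)⁻¹ = gam D' := conj_gam _ _
  rw [core_bot_conj A (gam B) 2 (cjD n F P⁻¹), hconj]
  have hDs : (D' : Mat)ᵀ = D' := by rw [hD', Matrix.diagonal_transpose]
  exact core_eq_bot _ (conj_mem_map A hinn _) _ hinj 2 (core_fix r hn D' hr2 (odd_symm r hn D' hr2 hDs))
    fun d _ hd => stab_diag r hn D' h2 D hD' d hd

end Cfsg.Agent.LocalBal.PSL
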