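import Mathlib
import Cfsg.Agent.Lib.LocalBal.PSLField
import Cfsg.Agent.Lib.AutPSL.GraphForm
import Cfsg.Agent.Lib.AutPSU.Centre
import Cfsg.Agent.S0283

/-!
# Cores of centralisers of graph-field involutions of `PSL_n`
-/

set_option autoImplicit false
set_option linter.unusedSectionVars false
set_option linter.style.haveILetI false

namespace Cfsg.Agent.LocalBal.PSL

open Matrix Cfsg.Agent.AutPSL
open Cfsg.Agent.AutPSU (QField qb qb_apply IsT exists_norm exists_skew exists_H_eq_one)

universe u

variable {F : Type u} [Field F] {n : ℕ} {q : ℕ} [QField F q]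

local notation "SLn" => Matrix.SpecialLinearGroup (Fin n) F
local notation "PSLn" => Matrix.ProjectiveSpecialLinearGroup (Fin n) F
local notation "Mat" => Matrix (Fin n) (Fin n) F
local notation "GLn" => GL (Fin n) F
local notation "V" => Fin n → F
local notation "scal" => Matrix.GeneralLinearGroup.scalar (Fin n)
local notation "σ" => qb (F := F) q
local notation "H" => Cfsg.hermForm n F q
local notation "θ" => (fld (qb (F := F) q) * gpart true : MulAut SLn)

theorem mem_SU_iff (s : SLn) : s ∈ Cfsg.SU n F q ↔ (s : Mat)ᵀ * (s : Mat).map σ = 1 := by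
  have key : ∀ u v : V, H ((s : Mat) *ᵥ u) ((s : Mat) *ᵥ v) =
      u ⬝ᵥ (((s : Mat)ᵀ * (s : Mat).map σ) *ᵥ fun i => σ (v i)) := by
    intro u v
    rw [← Matrix.mulVec_mulVec, Matrix.dotProduct_mulVec u (s : Mat)ᵀ, Matrix.vecMul_transpose,
      AutPSU.H_eq]
    refine Finset.sum_congr rfl fun i _ => ?_
    simp [Matrix.mulVec, dotProduct, map_sum]
  have hH : ∀ u v : V, H u v = u ⬝ᵥ fun i => σ (v i) := fun u v => AutPSU.H_eq u v
  constructor
  · intro hs
    refine ext_form fun u v => ?_
    have h1 : H ((s : Mat) *ᵥ u) ((s : Mat) *ᵥ fun i => (σ).symm (v i)) = H u fun i => (σ).symm (v i) :=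
      hs u fun i => (σ).symm (v i)
    rw [key, hH] at h1
    simpa using h1
  · intro hs u v
    show H ((s : Mat) *ᵥ u) ((s : Mat) *ᵥ v) = H u v
    rw [key, hs, Matrix.one_mulVec, hH]

theorem mem_SU_iff_fixed (s : SLn) : s ∈ Cfsg.SU n F q ↔ θ s = s := by
  have hb : ∀ a, (σ) ((σ) a) = a := AutPSU.qb_qb
  have hmap : ∀ M : Mat, (M.map σ).map σ = M := fun M => by ext a b; simp
  have hθ : (θ s : Mat) = (((s⁻¹ : SLn) : Mat)ᵀ).map σ := by
    simp [gpart, MulAut.mul_apply, fld_apply, itp_apply]
  rw [mem_SU_iff]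
  constructor
  · intro h
    apply Subtype.ext
    rw [hθ]
    have h1 : (((s⁻¹ : SLn) : Mat))ᵀ = (s : Mat).map σ := by
      have h2 : ((s⁻¹ : SLn) : Mat)ᵀ * (s : Mat)ᵀ = 1 := by
        rw [← Matrix.transpose_mul, ← Matrix.SpecialLinearGroup.coe_mul, mul_inv_cancel,
          Matrix.SpecialLinearGroup.coe_one, Matrix.transpose_one]
      calc ((s⁻¹ : SLn) : Mat)ᵀ = ((s⁻¹ : SLn) : Mat)ᵀ * ((s : Mat)ᵀ * (s : Mat).map σ) := by rw [h, mul_one]
        _ = _ := by rw [← mul_assoc, h2, one_mul]
    rw [h1, hmap]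
  · intro h
    have h1 := congrArg (fun x : SLn => (x : Mat).map σ) h
    simp only [hθ, hmap] at h1
    rw [← h1, ← Matrix.transpose_mul, ← Matrix.SpecialLinearGroup.coe_mul, inv_mul_cancel,
      Matrix.SpecialLinearGroup.coe_one, Matrix.transpose_one]

variable (r : ℕ) [Fact r.Prime] [CharP F r]

/-- `PSU` inside `PSL`. -/
def jU (hn : 3 ≤ n) : Cfsg.PSU n F q →* PSLn :=
  QuotientGroup.map _ _ (Cfsg.SU n F q).subtype fun z hz => by
    obtain ⟨c, hc⟩ := AutPSU.scalar_of_mem_center (by omega) hz
    have hM : ((z : SLn) : Mat) = c • 1 := Matrix.toLin'.injective (LinearMap.ext fun v => by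
      rw [Matrix.toLin'_apply, Matrix.toLin'_apply, Matrix.smul_mulVec, Matrix.one_mulVec]
      exact hc v)
    refine Subgroup.mem_center_iff.2 fun t => Subtype.ext ?_
    simp [hM]

variable (hn : 3 ≤ n)

theorem jU_proj (s : ↥(Cfsg.SU n F q)) : jU (F := F) hn (AutPSU.proj n F q s) = proj n F (s : SLn) := rfl

theorem jU_injective : Function.Injective (jU (F := F) (q := q) hn) := by
  rw [injective_iff_map_eq_one]
  intro x hx
  obtain ⟨s, rfl⟩ := AutPSU.proj_surjective x
  rw [jU_proj, proj_eq_one_iff] at hx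
  rw [AutPSU.proj_eq_one_iff]
  exact Subgroup.mem_center_iff.2 fun t => Subtype.ext (Subgroup.mem_center_iff.1 hx _)

theorem stdAut_jU (l : Cfsg.PSU n F q) :
    stdAut n (σ) true (jU hn l) = jU (F := F) (q := q) hn l := by
  obtain ⟨s, rfl⟩ := AutPSU.proj_surjective l
  rw [jU_proj, stdAut, descend_proj, (mem_SU_iff_fixed _).1 s.2]

include r hn

/-- A semilinear automorphism fixing the unitary group is trivial. -/
theorem eq_one_of_fix_jU (g : GLn) (τ : F ≃+* F)
    (hd : ∀ l : Cfsg.PSU n F q, descend (cj g * fld τ) (jU hn l) = jU hn l) :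
    descend (cj g * fld τ) = (1 : MulAut PSLn) := by
  haveI := AutPSU.finite_field (F := F) (q := q)
  let Γ : V → V := fun v => (g : Mat) *ᵥ fun i => τ (v i)
  have hΓadd : ∀ u v, Γ (u + v) = Γ u + Γ v := fun u v => by
    simp only [Γ]
    rw [← Matrix.mulVec_add]
    congr 1
    funext i
    simp
  have hΓsmul : ∀ (a : F) v, Γ (a • v) = τ a • Γ v := fun a v => by
    simp only [Γ]
    rw [← Matrix.mulVec_smul]
    congr 1
    funext i
    simp
  -- isotropic points are fixed
  have hpt : ∀ x : V, x ≠ 0 → H x x = 0 → ∃ μ : F, Γ x = μ • x := by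
    intro x hx hxx
    obtain ⟨t, ht0, hT⟩ := AutPSU.exists_isT (q := q) hxx
    set s := AutPSU.tr x t hT
    have hs : (cj g * fld τ : MulAut SLn) (s : SLn) = (s : SLn) := by
      refine eq_of_proj_eq r (k := 2) (l := 2) ?_ ?_ ?_
      · rw [← map_pow, ← Subgroup.coe_pow, AutPSU.tr_pow_sq r hT, OneMemClass.coe_one, map_one]
      · rw [← Subgroup.coe_pow, AutPSU.tr_pow_sq r hT, OneMemClass.coe_one]
      · rw [← descend_proj, ← jU_proj hn, hd]
    have hM : (g : Mat) * ((s : SLn) : Mat).map τ = ((s : SLn) : Mat) * (g : Mat) := by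
      conv_rhs => rw [← hs]
      rw [MulAut.mul_apply, cj_apply, fld_apply, mul_assoc, Units.inv_mul, mul_one]
    have hcomm : ∀ u : V, Γ (AutPSU.app s u) = AutPSU.app s (Γ u) := by
      intro u
      show (g : Mat) *ᵥ _ = ((s : SLn) : Mat) *ᵥ ((g : Mat) *ᵥ _)
      rw [Matrix.mulVec_mulVec, ← hM, ← Matrix.mulVec_mulVec]
      congr 1
      funext i
      simp [AutPSU.app, Matrix.mulVec, dotProduct, map_sum]
    obtain ⟨u, hu⟩ := exists_H_eq_one (q := q) hx
    have h1 := hcomm u
    rw [AutPSU.tr_apply, AutPSU.tr_apply, hu, mul_one, hΓadd, hΓsmul, add_right_inj] at h1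
    refine ⟨(τ t)⁻¹ * (t * H (Γ u) x), ?_⟩
    rw [← smul_smul, ← h1, inv_smul_smul₀ (by simpa using ht0)]
  have hcol : ∀ a k : Fin n, Γ (Pi.single a 1) k = (g : Mat) k a := by
    intro a k
    simp only [Γ]
    rw [show (fun i => τ ((Pi.single a (1 : F) : V) i)) = Pi.single a 1 by
      funext i; simp [Pi.single_apply, apply_ite τ], Matrix.mulVec_single_one]
    rfl
  -- two isotropic points on each line of two orthogonal unit vectors
  obtain ⟨c, hc⟩ := exists_norm (F := F) (q := q) (c := -1) (by simp)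
  obtain ⟨a₀, ha₀⟩ := AutPSU.qb_ne (F := F) (q := q)
  have ha₀0 : a₀ ≠ 0 := fun e => ha₀ (by rw [e, map_zero])
  set ν := a₀ / σ a₀ with hν
  have hσa₀ : σ a₀ ≠ 0 := by simpa using ha₀0
  have hν1 : ν ≠ 1 := fun e => ha₀ ((div_eq_one_iff_eq hσa₀).1 e).symm
  have hνn : ν * σ ν = 1 := by
    rw [hν, map_div₀, AutPSU.qb_qb]
    field_simp
  have hc0 : c ≠ 0 := fun e => by rw [e, zero_mul] at hc; exact neg_ne_zero.2 one_ne_zero hc.symm
  have hiso : ∀ (a b : Fin n), a ≠ b → ∀ y : F, y * σ y = -1 →
      H (Pi.single a 1 + y • Pi.single b 1) (Pi.single a 1 + y • Pi.single b 1) = 0 := by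
    intro a b hab y hy
    rw [AutPSU.H_eq, Fintype.sum_eq_add a b hab fun k hk => by simp [hk.1, hk.2]]
    simp [hab, hab.symm, hy]
  have hne : ∀ (a b : Fin n), a ≠ b → ∀ y : F, (Pi.single a 1 + y • Pi.single b 1 : V) ≠ 0 := fun a b hab y e => by
    simpa [hab] using congrFun e a
  have hoff : ∀ k a : Fin n, k ≠ a → (g : Mat) k a = 0 := by
    intro k a hka
    obtain ⟨b, hba, hbk⟩ : ∃ b : Fin n, b ≠ a ∧ b ≠ k := by
      by_contra hcon
      push Not at hcon
      have : (Finset.univ : Finset (Fin n)) ⊆ {a, k} := fun b _ => by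
        by_cases hb : b = a
        · simp [hb]
        · simp [hcon b hb]
      have := (Finset.card_le_card this).trans Finset.card_le_two
      simp at this
      omega
    have hy : ∀ y : F, y * σ y = -1 → (g : Mat) k a + τ y * (g : Mat) k b = 0 := by
      intro y hy
      obtain ⟨μ, hμ⟩ := hpt _ (hne a b hba.symm y) (hiso a b hba.symm y hy)
      have := congrFun hμ k
      rw [hΓadd, hΓsmul] at this
      simpa [hcol, hka, hbk.symm] using this
    have h1 := hy c hc
    have h2 := hy (c * ν) (by rw [map_mul]; linear_combination (ν * σ ν) * hc - hνn)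
    have h3 : (τ c - τ (c * ν)) * (g : Mat) k b = 0 := by linear_combination h1 - h2
    have h4 : τ c - τ (c * ν) ≠ 0 := sub_ne_zero.2 fun e => hν1 (by
      have := τ.injective e
      field_simp at this
      exact this.symm)
    rw [(mul_eq_zero.1 h3).resolve_left h4, mul_zero, add_zero] at h1
    exact h1
  -- three coordinates
  have key : ∀ a b : Fin n, a ≠ b → ∀ y : F, (g : Mat) b b * τ y = (g : Mat) a a * y := by
    intro a b hab y
    obtain ⟨k, hka, hkb⟩ : ∃ k : Fin n, k ≠ a ∧ k ≠ b := by
      by_contra hcon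
      push Not at hcon
      have : (Finset.univ : Finset (Fin n)) ⊆ {a, b} := fun i _ => by
        by_cases hi : i = a
        · simp [hi]
        · simp [hcon i hi]
      have := (Finset.card_le_card this).trans Finset.card_le_two
      simp at this
      omega
    obtain ⟨z, hz⟩ := exists_norm (F := F) (q := q) (c := -1 - y * σ y) (by
      rw [map_sub, map_mul, map_neg, map_one, AutPSU.qb_qb, mul_comm])
    set x : V := Pi.single a 1 + y • Pi.single b 1 + z • Pi.single k 1
    have hx0 : x ≠ 0 := fun e => by simpa [x, hab, hka.symm] using congrFun e a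
    have hxx : H x x = 0 := by
      rw [AutPSU.H_eq, ← Finset.sum_subset (Finset.subset_univ ({a, b, k} : Finset (Fin n)))
        (fun i _ hi => by simp at hi; simp [x, hi.1, hi.2.1, hi.2.2]),
        Finset.sum_insert (by simp [hab, hka.symm]), Finset.sum_insert (by simp [hkb.symm]), Finset.sum_singleton]
      simp [x, hab, hab.symm, hka, hka.symm, hkb, hkb.symm, hz]
    obtain ⟨μ, hμ⟩ := hpt x hx0 hxx
    have ea := congrFun hμ a
    have eb := congrFun hμ b
    simp only [x, hΓadd, hΓsmul] at ea eb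
    simp [hcol, hab, hab.symm, hka, hka.symm, hkb, hkb.symm, hoff _ _ hab, hoff _ _ hab.symm,
      hoff _ _ hka.symm, hoff _ _ hkb.symm] at ea eb
    rw [mul_comm, eb, ea]
  let i0 : Fin n := ⟨0, by omega⟩
  have heq : ∀ a, (g : Mat) a a = (g : Mat) i0 i0 := fun a => by
    by_cases h : a = i0
    · rw [h]
    · simpa using key i0 a (Ne.symm h) 1
  have hg0 : (g : Mat) i0 i0 ≠ 0 := fun e => by
    refine ((Matrix.isUnit_iff_isUnit_det (g : Mat)).mp g.isUnit).ne_zero
      (Matrix.det_eq_zero_of_column_eq_zero i0 fun k => ?_)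
    by_cases h : k = i0
    · rw [h, e]
    · exact hoff k i0 h
  have hτ : τ = RingEquiv.refl F := RingEquiv.ext fun y => by
    have h1 := key i0 ⟨1, by omega⟩ (fun e => by simpa [i0] using congrArg Fin.val e) y
    rw [heq] at h1
    exact mul_left_cancel₀ hg0 h1
  have hgc : g ∈ Subgroup.center GLn := by
    rw [Matrix.GeneralLinearGroup.center_eq_range_scalar]
    refine ⟨Units.mk0 _ hg0, Units.ext ?_⟩
    rw [scalar_coe]
    ext a b
    rcases eq_or_ne a b with rfl | hab
    · simp [heq a]
    · simp [hoff a b hab, hab]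
  rw [hτ, fld_one, mul_one, cj_eq_one_of_mem_center hgc, map_one]

theorem stdAut_true_sq : stdAut n (σ) true * stdAut n (σ) true = (1 : MulAut PSLn) := by
  rw [stdAut, ← map_mul, show (fld (σ) * gpart true : MulAut SLn) = fld (σ) * itp from rfl,
    mul_assoc, ← mul_assoc itp, ← fld_mul_itp, mul_assoc, itp_mul_itp, mul_one, fld_mul,
    show (σ).trans (σ) = RingEquiv.refl F from RingEquiv.ext AutPSU.qb_qb, fld_one, map_one]

/-- The pointwise stabiliser of the unitary group has exponent two. -/
theorem stab_jU (d : MulAut PSLn) (hd : ∀ l : Cfsg.PSU n F q, d (jU hn l) = jU hn l) :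
    d = 1 ∨ d = stdAut n (σ) true := by
  haveI := AutPSU.finite_field (F := F) (q := q)
  obtain ⟨g, τ, ε, rfl⟩ := exists_normal_form r (by omega : 2 ≤ n) d
  cases ε with
  | false =>
    simp only [gpart, Bool.false_eq_true, if_false, mul_one] at hd ⊢
    exact Or.inl (eq_one_of_fix_jU r hn g τ hd)
  | true =>
    refine Or.inr ?_
    have e : descend (cj g * fld τ * gpart true) * stdAut n (σ) true =
        (descend (cj g * fld ((σ).trans τ)) : MulAut PSLn) := by
      rw [stdAut, ← map_mul]
      congr 1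
      rw [show (gpart true : MulAut SLn) = itp from rfl, mul_assoc, ← mul_assoc itp, ← fld_mul_itp,
        mul_assoc (fld _) itp itp, itp_mul_itp, mul_one, mul_assoc, fld_mul]
    have h1 : descend (cj g * fld τ * gpart true) * stdAut n (σ) true = (1 : MulAut PSLn) := by
      rw [e]
      refine eq_one_of_fix_jU (q := q) r hn g _ fun l => ?_
      rw [← e, MulAut.mul_apply, stdAut_jU, hd]
    rw [← mul_left_inj (stdAut n (σ) true), h1, stdAut_true_sq (q := q) r hn]

/-- The core is trivial. -/
theorem graphField_core (h2 : r ≠ 2) (A : Subgroup (MulAut PSLn)) (hinn : ∀ k, MulAut.conj k ∈ A) :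
    Cfsg.pPrimeCore 2 ↥(A ⊓ Subgroup.centralizer {stdAut n (σ) true}) = ⊥ := by
  haveI := AutPSU.finite_field (F := F) (q := q)
  haveI : Fintype F := Fintype.ofFinite F
  haveI : Fact (Nat.Prime 2) := ⟨Nat.prime_two⟩
  have hn2 : 2 ≤ n := by omega
  have hcard : Fintype.card F = q ^ 2 := by rw [← Nat.card_eq_fintype_card]; exact QField.card
  have h32 : ¬ (n = 3 ∧ q = 2) := by
    rintro ⟨-, rfl⟩
    obtain ⟨k, hr, hk⟩ := FiniteField.card F r
    rw [hcard] at hk
    have : r ∣ 2 ^ 2 := hk ▸ dvd_pow_self r k.ne_zero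
    exact h2 ((Nat.prime_dvd_prime_iff_eq hr Nat.prime_two).1 (hr.dvd_of_dvd_pow this))
  haveI := Cfsg.Agent.S0283.result hcard n hn h32
  refine core_eq_bot A hinn _ (conj_injective r hn2) 2 ?_ fun d _ hd => ?_
  · refine core_fix_eq_bot _ 2 (jU (F := F) (q := q) hn) (jU_injective hn) (stdAut_jU hn) ?_ ?_
      (simple_hL 2 ?_)
    · intro k hk l
      obtain ⟨s, rfl⟩ := proj_surjective k
      have hc := commute_conj hk
      rw [← descend_conj, ← cj_toGL] at hc
      obtain ⟨b, hb⟩ := exists_fixed_graphField r hn2 σ AutPSU.qb_qb AutPSU.qb_ne_refl _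
        ((commute_stdAut_iff r hn2 σ true _).1 hc)
      obtain ⟨t, rfl⟩ := AutPSU.proj_surjective l
      have hmem : cj (Matrix.SpecialLinearGroup.toGL s * scal b) (t : SLn) ∈ Cfsg.SU n F q := by
        rw [mem_SU_iff_fixed]
        show (θ * cj (Matrix.SpecialLinearGroup.toGL s * scal b) : MulAut SLn) (t : SLn) = _
        rw [fld_gpart_mul_cj, hb, MulAut.mul_apply, (mem_SU_iff_fixed _).1 t.2]
      refine ⟨AutPSU.proj n F q ⟨_, hmem⟩, ?_⟩
      rw [jU_proj, jU_proj]
      show _ = proj n F (cj (Matrix.SpecialLinearGroup.toGL s * scal b) (t : SLn))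
      rw [map_mul cj, cj_eq_one_of_mem_center (scalar_mem_center b), mul_one, cj_toGL, MulAut.conj_apply,
        map_mul, map_mul, map_inv]
    · intro k _ hk
      rcases stab_jU r hn (MulAut.conj k) fun l => by rw [MulAut.conj_apply, hk, mul_inv_cancel_right] with
        e | e
      · exact conj_injective r hn2 (e.trans (map_one _).symm)
      · exfalso
        obtain ⟨s, rfl⟩ := proj_surjective k
        rw [← descend_conj, ← cj_toGL] at e
        refine descend_itp_ne r hn ((Matrix.SpecialLinearGroup.toGL s)⁻¹) σ ?_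
        rw [mul_assoc, show (fld (σ) * itp : MulAut SLn) = fld (σ) * gpart true from rfl, map_mul descend]
        show descend (cj _) * stdAut n (σ) true = 1
        rw [← e, map_inv, map_inv, inv_mul_cancel]
    · -- an involution in the unitary group
      let i0 : Fin n := ⟨0, by omega⟩
      let i1 : Fin n := ⟨1, by omega⟩
      let i2 : Fin n := ⟨2, by omega⟩
      have h01 : i0 ≠ i1 := fun e => by simpa [i0, i1] using congrArg Fin.val e
      let dd : Fin n → F := fun k => if k = i0 ∨ k = i1 then -1 else 1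
      have hdet : (Matrix.diagonal dd).det = 1 := by
        rw [Matrix.det_diagonal, Fintype.prod_eq_mul i0 i1 h01 fun k hk => by simp [dd, hk.1, hk.2]]
        simp [dd]
      let a : SLn := ⟨Matrix.diagonal dd, hdet⟩
      have hmap : (a : Mat).map σ = (a : Mat) := by
        show (Matrix.diagonal dd).map σ = Matrix.diagonal dd
        rw [Matrix.diagonal_map (map_zero _)]
        congr 1
        funext k
        simp only [dd, Function.comp_apply]
        split_ifs <;> simp
      have hsq : (a : Mat) * (a : Mat) = 1 := by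
        show Matrix.diagonal dd * Matrix.diagonal dd = 1
        rw [Matrix.diagonal_mul_diagonal, ← Matrix.diagonal_one]
        congr 1
        funext k
        simp only [dd]
        split_ifs <;> simp
      have hmem : a ∈ Cfsg.SU n F q := by
        rw [mem_SU_iff, hmap, show (a : Mat)ᵀ = (a : Mat) from Matrix.diagonal_transpose dd, hsq]
      have hne : AutPSU.proj n F q ⟨a, hmem⟩ ≠ 1 := by
        intro h
        have h1 := congrArg (jU (F := F) hn) h
        rw [jU_proj, map_one, proj_eq_one_iff, Matrix.SpecialLinearGroup.mem_center_iff] at h1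
        obtain ⟨c, -, hc⟩ := h1
        have e0 : c = dd i0 := by simpa [a] using congrFun (congrFun hc i0) i0
        have e2 : c = dd i2 := by simpa [a] using congrFun (congrFun hc i2) i2
        have e3 : (-1 : F) = 1 := by
          rw [e0] at e2
          simpa [dd, i0, i1, i2] using e2
        have : (2 : F) = 0 := by linear_combination -e3
        exact h2 (Nat.dvd_prime Nat.prime_two |>.1 ((CharP.cast_eq_zero_iff F r 2).1 (by exact_mod_cast this))
          |>.resolve_left (Fact.out : r.Prime).ne_one)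
      have hord : orderOf (AutPSU.proj n F q ⟨a, hmem⟩) = 2 := orderOf_eq_prime (by
        rw [← map_pow, pow_two, show (⟨a, hmem⟩ * ⟨a, hmem⟩ : ↥(Cfsg.SU n F q)) = 1 from
          Subtype.ext (Subtype.ext hsq), map_one]) hne
      rw [← hord]
      exact orderOf_dvd_natCard _
  · rcases stab_jU r hn d fun l => hd _ (stdAut_jU hn l) with rfl | rfl
    · exact one_pow 2
    · rw [pow_two]; exact stdAut_true_sq (q := q) r hn

end Cfsg.Agent.LocalBal.PSL
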