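import Mathlib
import Cfsg.Agent.Lib.LocalBal.CoreTwo
import Cfsg.Agent.Lib.LocalBal.PSLField
import Cfsg.Agent.Lib.AutPSU.Twisted
import Cfsg.Agent.S0283
import Cfsg.Agent.S0282

/-!
# Cores of centralisers of field automorphisms of `PSU_n`
-/

set_option autoImplicit false
set_option linter.unusedSectionVars false
set_option linter.style.haveILetI false

namespace Cfsg.Agent.LocalBal.PSU

open Matrix Cfsg.Agent.AutPSU

universe u v

section General

variable {F : Type u} [Field F] {q : ℕ} [hQ : QField F q] {n : ℕ}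
include hQ

local notation "σ" => qb (F := F) q
local notation "V" => Fin n → F
local notation "Mat" => Matrix (Fin n) (Fin n) F
local notation "GLn" => GL (Fin n) F
set_option quotPrecheck false in
local notation "SUn" => ↥(Cfsg.SU n F q)
local notation "PSUn" => Cfsg.PSU n F q

theorem finite_PSU : Finite PSUn := by
  haveI := finite_field (F := F) (q := q)
  haveI : Finite (Matrix.SpecialLinearGroup (Fin n) F) := Finite.of_injective Subtype.val Subtype.val_injective
  exact Quotient.finite _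

variable (r : ℕ) [Fact r.Prime] [CharP F r]
include r

theorem conj_injective (hn : 3 ≤ n) : Function.Injective (MulAut.conj : PSUn →* MulAut PSUn) :=
  (injective_iff_map_eq_one _).2 fun x hx => center_trivial r hn x hx

/-- A normal subgroup of `r`-power order is trivial. -/
theorem normal_pgroup_trivial (hn : 2 ≤ n) (N : Subgroup PSUn) [N.Normal] (hN : IsPGroup r N) : N = ⊥ := by
  classical
  haveI := finite_field (F := F) (q := q)
  haveI : Finite (Matrix.SpecialLinearGroup (Fin n) F) := Finite.of_injective Subtype.val Subtype.val_injective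
  have hle : ∀ P : Sylow r SUn, N ≤ (P : Subgroup SUn).map (proj n F q) := by
    intro P
    let Q : Sylow r PSUn := P.mapSurjective (proj_surjective (n := n) (F := F) (q := q))
    obtain ⟨T, hT⟩ := hN.exists_le_sylow
    obtain ⟨x, hx⟩ := MulAction.exists_smul_eq PSUn T Q
    intro y hy
    show y ∈ (Q : Subgroup PSUn)
    rw [← hx]
    have h1 : x⁻¹ * y * x ∈ (T : Subgroup _) := hT (by simpa using Subgroup.Normal.conj_mem inferInstance y hy x⁻¹)
    refine ⟨_, h1, ?_⟩
    simp [MulAut.conj_apply, mul_assoc]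
  refine eq_bot_iff.2 fun x hx => Subgroup.mem_bot.2 ?_
  obtain ⟨y₀, hy₀, hy₀0⟩ := exists_isotropic (F := F) (q := q) hn
  obtain ⟨P₀, -, -⟩ := exists_sylow_fix r hn hy₀ hy₀0
  obtain ⟨u, hu, rfl⟩ := hle P₀ hx
  obtain ⟨k, hk⟩ := P₀.2 ⟨u, hu⟩
  rw [proj_eq_one_iff]
  obtain ⟨c, hc⟩ := scalar_of_fix_iso (q := q) hn (((u : SUn) : Matrix.SpecialLinearGroup (Fin n) F) : Mat)
    fun y hy hyy => by
      obtain ⟨P, -, hP⟩ := exists_sylow_fix r hn hy hyy
      obtain ⟨u', hu', e⟩ := hle P hx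
      obtain ⟨l, hl⟩ := P.2 ⟨u', hu'⟩
      have := eq_of_proj_eq r hn (k := k) (l := l) (congrArg Subtype.val hk) (congrArg Subtype.val hl) e.symm
      subst this
      exact ⟨1, by rw [one_smul]; exact hP u hu'⟩
  exact mem_center_of_scalar hc

end General

section Field

variable {F : Type u} [Field F] {q : ℕ} [hQ : QField F q] {n : ℕ}
  {F₀ : Type v} [Field F₀] {q₀ : ℕ} [hQ₀ : QField F₀ q₀] (τ : F ≃+* F) (j : F₀ →+* F)
  (hj : ∀ a, τ a = a ↔ a ∈ j.range) (hjσ : ∀ a, j (qb q₀ a) = qb q (j a))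
include hQ hQ₀

local notation "σ" => qb (F := F) q
local notation "V" => Fin n → F
local notation "Mat" => Matrix (Fin n) (Fin n) F
set_option quotPrecheck false in
local notation "SUn" => ↥(Cfsg.SU n F q)
local notation "PSUn" => Cfsg.PSU n F q
local notation "H" => Cfsg.hermForm n F q
local notation "H₀" => Cfsg.hermForm n F₀ q₀
set_option quotPrecheck false in
local notation "SU₀" => ↥(Cfsg.SU n F₀ q₀)
local notation "PSU₀" => Cfsg.PSU n F₀ q₀

include hjσ in
theorem H_map (u v : Fin n → F₀) : H (fun i => j (u i)) (fun i => j (v i)) = j (H₀ u v) := by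
  rw [H_eq, H_eq, map_sum]
  simp [hjσ]

/-- The special unitary group over the subfield. -/
noncomputable def jS : SU₀ →* SUn :=
  ((Matrix.SpecialLinearGroup.map j).comp (Cfsg.SU n F₀ q₀).subtype).codRestrict _
    fun s => (gMap j hjσ (suToGU s)).2

theorem jS_coe (s : SU₀) :
    ((jS (q := q) j hjσ s : SUn) : Matrix.SpecialLinearGroup (Fin n) F).1 =
      ((s : Matrix.SpecialLinearGroup (Fin n) F₀) : Matrix (Fin n) (Fin n) F₀).map j := rfl

theorem jS_injective : Function.Injective (jS (n := n) (q := q) j hjσ) := fun s t h => Subtype.ext (Subtype.ext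
  (Matrix.map_injective j.injective (congrArg (fun x : SUn => (x : Matrix.SpecialLinearGroup (Fin n) F).1) h)))

variable (hn : 3 ≤ n)

/-- The group over the subfield. -/
noncomputable def jU : PSU₀ →* PSUn :=
  QuotientGroup.map _ _ (jS (q := q) j hjσ) fun s hs => by
    obtain ⟨c, hc⟩ := scalar_of_mem_center (q := q₀) (by omega : 2 ≤ n) hs
    refine mem_center_of_scalar (c := j c) fun v => ?_
    have hM : ((s : Matrix.SpecialLinearGroup (Fin n) F₀) : Matrix (Fin n) (Fin n) F₀) = c • 1 :=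
      Matrix.toLin'.injective (LinearMap.ext fun v => by
        rw [Matrix.toLin'_apply, Matrix.toLin'_apply, Matrix.smul_mulVec, Matrix.one_mulVec]
        exact hc v)
    show ((jS (q := q) j hjσ s : SUn) : Matrix.SpecialLinearGroup (Fin n) F).1 *ᵥ v = _
    rw [jS_coe, hM, Matrix.map_smul' _ _ _ (map_mul j), Matrix.map_one _ (map_zero j) (map_one j),
      Matrix.smul_mulVec, Matrix.one_mulVec]

theorem jU_proj (s : SU₀) : jU (q := q) j hjσ hn (proj n F₀ q₀ s) = proj n F q (jS j hjσ s) := rfl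

theorem jU_injective : Function.Injective (jU (q := q) j hjσ hn) := by
  rw [injective_iff_map_eq_one]
  intro x hx
  obtain ⟨s, rfl⟩ := proj_surjective x
  rw [jU_proj, proj_eq_one_iff] at hx
  rw [proj_eq_one_iff]
  refine Subgroup.mem_center_iff.2 fun t => jS_injective (q := q) j hjσ ?_
  rw [map_mul, map_mul]
  exact Subgroup.mem_center_iff.1 hx _

include hj in
theorem stdF_jU (l : PSU₀) : stdF τ (jU (q := q) j hjσ hn l) = jU j hjσ hn l := by
  obtain ⟨s, rfl⟩ := proj_surjective l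
  rw [jU_proj, stdF, descend_proj]
  congr 1
  refine Subtype.ext (Subtype.ext ?_)
  rw [fld_coe, jS_coe]
  ext a b
  exact (hj _).2 ⟨_, rfl⟩

/-- A semilinear map fixing the isotropic points over the subfield. -/
theorem scalar_of_iso_lines (g : GL (Fin n) F) (ρ : F ≃+* F) (hn : 3 ≤ n)
    (hpt : ∀ x : Fin n → F₀, x ≠ 0 → H₀ x x = 0 →
      ∃ μ : F, (g : Mat) *ᵥ (fun i => ρ (j (x i))) = μ • fun i => j (x i)) :
    (∃ c : F, (g : Mat) = c • 1) ∧ ∀ a, ρ (j a) = j a := by
  haveI := finite_field (F := F₀) (q := q₀)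
  obtain ⟨c, hc⟩ := exists_norm (F := F₀) (q := q₀) (c := -1) (by simp)
  obtain ⟨a₀, ha₀⟩ := qb_ne (F := F₀) (q := q₀)
  have ha₀0 : a₀ ≠ 0 := fun e => ha₀ (by rw [e, map_zero])
  set ν := a₀ / qb q₀ a₀ with hν
  have hσa₀ : qb q₀ a₀ ≠ 0 := by simpa using ha₀0
  have hν1 : ν ≠ 1 := fun e => ha₀ ((div_eq_one_iff_eq hσa₀).1 e).symm
  have hνn : ν * qb q₀ ν = 1 := by
    rw [hν, map_div₀, qb_qb]
    field_simp
  have hc0 : c ≠ 0 := fun e => by rw [e, zero_mul] at hc; exact neg_ne_zero.2 one_ne_zero hc.symm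
  have hiso : ∀ (a b : Fin n), a ≠ b → ∀ y : F₀, y * qb q₀ y = -1 →
      H₀ (Pi.single a 1 + y • Pi.single b 1) (Pi.single a 1 + y • Pi.single b 1) = 0 := by
    intro a b hab y hy
    rw [H_eq, Fintype.sum_eq_add a b hab fun k hk => by simp [hk.1, hk.2]]
    simp [hab, hab.symm, hy]
  let Γ : (Fin n → F₀) → V := fun x => (g : Mat) *ᵥ fun i => ρ (j (x i))
  have hΓadd : ∀ u v, Γ (u + v) = Γ u + Γ v := fun u v => by
    simp only [Γ]
    rw [← Matrix.mulVec_add]
    congr 1
    funext i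
    simp
  have hΓsmul : ∀ (a : F₀) v, Γ (a • v) = ρ (j a) • Γ v := fun a v => by
    simp only [Γ]
    rw [← Matrix.mulVec_smul]
    congr 1
    funext i
    simp
  have hcol : ∀ a k : Fin n, Γ (Pi.single a 1) k = (g : Mat) k a := by
    intro a k
    simp only [Γ]
    rw [show (fun i => ρ (j ((Pi.single a (1 : F₀) : Fin n → F₀) i))) = Pi.single a 1 by
      funext i; simp [Pi.single_apply, apply_ite j, apply_ite ρ], Matrix.mulVec_single_one]
    rfl
  have hne : ∀ (a b : Fin n), a ≠ b → ∀ y : F₀, (Pi.single a 1 + y • Pi.single b 1 : Fin n → F₀) ≠ 0 :=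
    fun a b hab y e => by simpa [hab] using congrFun e a
  have hoff : ∀ k a : Fin n, k ≠ a → (g : Mat) k a = 0 := by
    intro k a hka
    obtain ⟨b, hba, hbk⟩ : ∃ b : Fin n, b ≠ a ∧ b ≠ k := by
      by_contra hcon
      push Not at hcon
      have : (Finset.univ : Finset (Fin n)) ⊆ {a, k} := fun b _ => by
        by_cases hb : b = a
        · simp [hb]
        · simp [hcon b hb]
      have := (Finset.card_le_card this).trans Finset.card_le_two
      simp at this
      omega
    have hy : ∀ y : F₀, y * qb q₀ y = -1 → (g : Mat) k a + ρ (j y) * (g : Mat) k b = 0 := by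
      intro y hy
      obtain ⟨μ, hμ⟩ := hpt _ (hne a b hba.symm y) (hiso a b hba.symm y hy)
      have := congrFun hμ k
      change Γ _ k = _ at this
      rw [hΓadd, hΓsmul] at this
      simpa [hcol, hka, hbk.symm] using this
    have h1 := hy c hc
    have h2 := hy (c * ν) (by rw [map_mul]; linear_combination (ν * qb q₀ ν) * hc - hνn)
    have h3 : (ρ (j c) - ρ (j (c * ν))) * (g : Mat) k b = 0 := by linear_combination h1 - h2
    have h4 : ρ (j c) - ρ (j (c * ν)) ≠ 0 := sub_ne_zero.2 fun e => hν1 (by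
      have := j.injective (ρ.injective e)
      field_simp at this
      exact this.symm)
    rw [(mul_eq_zero.1 h3).resolve_left h4, mul_zero, add_zero] at h1
    exact h1
  have key : ∀ a b : Fin n, a ≠ b → ∀ y : F₀, (g : Mat) b b * ρ (j y) = (g : Mat) a a * j y := by
    intro a b hab y
    obtain ⟨k, hka, hkb⟩ : ∃ k : Fin n, k ≠ a ∧ k ≠ b := by
      by_contra hcon
      push Not at hcon
      have : (Finset.univ : Finset (Fin n)) ⊆ {a, b} := fun i _ => by
        by_cases hi : i = a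
        · simp [hi]
        · simp [hcon i hi]
      have := (Finset.card_le_card this).trans Finset.card_le_two
      simp at this
      omega
    obtain ⟨z, hz⟩ := exists_norm (F := F₀) (q := q₀) (c := -1 - y * qb q₀ y) (by
      rw [map_sub, map_mul, map_neg, map_one, qb_qb, mul_comm])
    set x : Fin n → F₀ := Pi.single a 1 + y • Pi.single b 1 + z • Pi.single k 1
    have hx0 : x ≠ 0 := fun e => by simpa [x, hab, hka.symm] using congrFun e a
    have hxx : H₀ x x = 0 := by
      rw [H_eq, ← Finset.sum_subset (Finset.subset_univ ({a, b, k} : Finset (Fin n)))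
        (fun i _ hi => by simp at hi; simp [x, hi.1, hi.2.1, hi.2.2]),
        Finset.sum_insert (by simp [hab, hka.symm]), Finset.sum_insert (by simp [hkb.symm]), Finset.sum_singleton]
      simp [x, hab, hab.symm, hka, hka.symm, hkb, hkb.symm, hz]
    obtain ⟨μ, hμ⟩ := hpt x hx0 hxx
    have ea := congrFun hμ a
    have eb := congrFun hμ b
    change Γ x a = _ at ea
    change Γ x b = _ at eb
    simp only [x, hΓadd, hΓsmul] at ea eb
    simp [hcol, hab, hab.symm, hka, hka.symm, hkb, hkb.symm, hoff _ _ hab, hoff _ _ hab.symm,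
      hoff _ _ hka.symm, hoff _ _ hkb.symm] at ea eb
    rw [mul_comm, eb, ea]
  let i0 : Fin n := ⟨0, by omega⟩
  have heq : ∀ a, (g : Mat) a a = (g : Mat) i0 i0 := fun a => by
    by_cases h : a = i0
    · rw [h]
    · simpa using key i0 a (Ne.symm h) 1
  have hg0 : (g : Mat) i0 i0 ≠ 0 := fun e => by
    refine ((Matrix.isUnit_iff_isUnit_det (g : Mat)).mp g.isUnit).ne_zero
      (Matrix.det_eq_zero_of_column_eq_zero i0 fun k => ?_)
    by_cases h : k = i0
    · rw [h, e]
    · exact hoff k i0 h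
  refine ⟨⟨(g : Mat) i0 i0, ?_⟩, fun y => ?_⟩
  · ext a b
    rcases eq_or_ne a b with rfl | hab
    · simp [heq a]
    · simp [hoff a b hab, hab]
  · have h1 := key i0 ⟨1, by omega⟩ (fun e => by simpa [i0] using congrArg Fin.val e) y
    rw [heq] at h1
    exact mul_left_cancel₀ hg0 h1

variable (r : ℕ) [Fact r.Prime] [CharP F r] [Fintype F] (h32 : ¬ (n = 3 ∧ q = 2))
include r

omit hj in
/-- An automorphism fixing the group over the subfield is a field automorphism fixing the subfield. -/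
theorem stab_jU (d : MulAut PSUn) (h32 : ¬ (n = 3 ∧ q = 2))
    (hd : ∀ l, d (jU (q := q) j hjσ hn l) = jU j hjσ hn l) :
    ∃ ρ : F ≃+* F, (∀ a, ρ (j a) = j a) ∧ d = stdF ρ := by
  obtain ⟨g, ρ, rfl⟩ := exists_normal_form r hn h32 d
  obtain ⟨⟨c, hc⟩, hρ⟩ := scalar_of_iso_lines (q₀ := q₀) (q := q) j (g : GL (Fin n) F) ρ hn (by
    intro x hx hxx
    obtain ⟨t, ht, hT⟩ := exists_isT hxx
    have hT' : IsT q (fun i => j (x i)) (j t) := ⟨by rw [H_map (q₀ := q₀) j hjσ, hxx, map_zero], by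
      rw [← hjσ, ← map_add, hT.2, map_zero]⟩
    have hS : jS (q := q) j hjσ (tr x t hT) = tr (fun i => j (x i)) (j t) hT' := by
      refine Subtype.ext (Subtype.ext ?_)
      ext a b
      have e1 := congrFun (tr_apply (fun i => j (x i)) (j t) hT' (Pi.single b 1)) a
      have e2 := congrArg j (congrFun (tr_apply x t hT (Pi.single b 1)) a)
      rw [app, Matrix.mulVec_single_one] at e1 e2
      rw [jS_coe, Matrix.map_apply]
      refine e2.trans (Eq.trans ?_ e1.symm)
      have hb : H (Pi.single b 1) (fun i => j (x i)) = j (H₀ (Pi.single b 1) x) := by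
        rw [← H_map (q₀ := q₀) j hjσ]
        congr 1
        funext i
        simp [Pi.single_apply, apply_ite j]
      simp [hb, Pi.single_apply, apply_ite j]
    have h := hd (proj n F₀ q₀ (tr x t hT))
    rw [jU_proj, hS] at h
    have hx' : (fun i => j (x i)) ≠ 0 := fun e => hx (funext fun i => j.injective (by
      rw [show j (x i) = 0 from congrFun e i, Pi.zero_apply, map_zero]))
    have hjt : j t ≠ 0 := fun e => ht (j.injective (e.trans (map_zero j).symm))
    rw [stdA_tr] at h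
    obtain ⟨a, ha⟩ := proj_tr_eq r (by omega : 2 ≤ n) hx' hjt h.symm
    exact ⟨a, ha⟩)
  refine ⟨ρ, hρ, ?_⟩
  rw [stdA_eq_mul, (descend_cj_eq_one r hn g).2 ?_, one_mul]
  have hc0 : c ≠ 0 := fun e => by
    have h0 := congrFun (congrFun hc ⟨0, by omega⟩) ⟨0, by omega⟩
    haveI : Nonempty (Fin n) := ⟨⟨0, by omega⟩⟩
    rw [e, zero_smul] at hc
    exact (g : GL (Fin n) F).ne_zero hc
  have hmem : (Units.mk0 c hc0) ^ (q + 1) = 1 := by
    refine (mem_scalars_GU_iff (n := n) (by omega) (Units.mk0 c hc0)).1 ?_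
    have : (Matrix.GeneralLinearGroup.scalar (Fin n) (Units.mk0 c hc0) : GL (Fin n) F) = (g : GL (Fin n) F) :=
      Units.ext (by simp [Matrix.GeneralLinearGroup.scalar, hc, Matrix.smul_one_eq_diagonal])
    rw [this]
    exact g.2
  exact ⟨⟨_, hmem⟩, Subtype.ext (Units.ext (by rw [scalU_coe]; exact hc))⟩

include hj hjσ hn h32

theorem exists_Psi (hr : 0 < orderOf τ) (k : PSUn) (hk : stdF τ k = k) :
    ∃ g₀ : Cfsg.GU n F₀ q₀, MulAut.conj k = descend (cj (gMap (q := q) j hjσ g₀)) := by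
  obtain ⟨s, rfl⟩ := proj_surjective k
  have hc := commute_conj hk
  rw [← descend_conj, ← cj_suToGU] at hc
  obtain ⟨c, hc⟩ := (commute_stdF_iff r hn τ _).1 hc
  obtain ⟨b, hb⟩ := exists_fixed τ j hj hjσ r hn hr _ c hc
  obtain ⟨g₀, hg₀⟩ := exists_gMap_eq τ j hj hjσ _ hb
  refine ⟨g₀, ?_⟩
  rw [hg₀, ← descend_conj, ← cj_suToGU, map_mul cj, map_mul descend, (descend_cj_eq_one r hn _).2 ⟨b, rfl⟩,
    mul_one]

theorem normal_jU (hr : 0 < orderOf τ) (k : PSUn) (hk : stdF τ k = k) (l : PSU₀) :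
    ∃ l', k * jU (q := q) j hjσ hn l * k⁻¹ = jU j hjσ hn l' := by
  obtain ⟨g₀, hg⟩ := exists_Psi τ j hj hjσ hn r h32 hr k hk
  obtain ⟨s, rfl⟩ := proj_surjective l
  refine ⟨proj n F₀ q₀ (cj g₀ s), ?_⟩
  rw [← MulAut.conj_apply, hg, jU_proj, jU_proj, descend_proj]
  congr 1
  refine Subtype.ext (Subtype.ext ?_)
  rw [jS_coe, cj_coe, cj_coe, gMap_coe, jS_coe, Matrix.map_mul, Matrix.map_mul]
  congr 1

omit hj in
theorem centralizer_jU (k : PSUn) (h : ∀ l, k * jU (q := q) j hjσ hn l = jU j hjσ hn l * k) : k = 1 := by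
  obtain ⟨ρ, -, e⟩ := stab_jU j hjσ hn r (MulAut.conj k) h32 fun l => by
    rw [MulAut.conj_apply, h, mul_inv_cancel_right]
  obtain ⟨s, rfl⟩ := proj_surjective k
  have h1 : stdA (suToGU s)⁻¹ ρ = (1 : MulAut PSUn) := by
    rw [stdA_eq_mul, ← e, ← descend_conj, ← cj_suToGU, map_inv, map_inv, inv_mul_cancel]
  refine conj_injective r hn ?_
  rw [e, (stdA_eq_one r hn h1).1, stdF_refl, map_one]

theorem card_fix_dvd (hr : 0 < orderOf τ) :
    Nat.card ↥(Fix (stdF τ : MulAut PSUn)) ∣ Nat.card (Cfsg.GU n F₀ q₀) := by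
  let Ψ : Cfsg.GU n F₀ q₀ →* MulAut PSUn := (descend.comp cj).comp (gMap j hjσ)
  have hle : (Fix (stdF τ : MulAut PSUn)).map (MulAut.conj : PSUn →* MulAut PSUn) ≤ Ψ.range := by
    rintro _ ⟨k, hk, rfl⟩
    obtain ⟨g, hg⟩ := exists_Psi τ j hj hjσ hn r h32 hr k hk
    exact ⟨g, hg.symm⟩
  rw [← Subgroup.card_map_of_injective (K := Fix (stdF τ : MulAut PSUn)) (conj_injective r hn)]
  exact (Subgroup.card_dvd_of_le hle).trans (Subgroup.card_range_dvd _)

end Field

section Small

variable {F₀ : Type v} [Field F₀] {q₀ : ℕ} [hQ₀ : QField F₀ q₀] {n : ℕ}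
include hQ₀

/-- Elements of prime order in the general unitary group come from the special one. -/
theorem dvd_card_psu (hn : 3 ≤ n) (p : ℕ) [Fact p.Prime] (hdvd : p ∣ Nat.card (Cfsg.GU n F₀ q₀)) :
    p ∣ Nat.card (Cfsg.PSU n F₀ q₀) := by
  classical
  haveI := finite_field (F := F₀) (q := q₀)
  haveI := finite_PSU (F := F₀) (q := q₀) (n := n)
  have hp : p.Prime := Fact.out
  suffices h : ∃ a : ↥(Cfsg.SU n F₀ q₀), a ∉ Subgroup.center _ ∧ a ^ p ∈ Subgroup.center _ by
    obtain ⟨a, h1, h2⟩ := h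
    have hord : orderOf (proj n F₀ q₀ a) = p := orderOf_eq_prime
      (by rw [← map_pow, proj_eq_one_iff]; exact h2) (by rw [Ne, proj_eq_one_iff]; exact h1)
    rw [← hord]
    exact orderOf_dvd_natCard _
  let i0 : Fin n := ⟨0, by omega⟩
  let i1 : Fin n := ⟨1, by omega⟩
  let i2 : Fin n := ⟨2, by omega⟩
  have h01 : i0 ≠ i1 := fun e => by simpa [i0, i1] using congrArg Fin.val e
  by_cases hq : p ∣ Nat.card (normOne (F := F₀) (q := q₀))
  · obtain ⟨ζ, hζ⟩ := exists_prime_orderOf_dvd_card' p hq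
    have hz : ((ζ : F₀ˣ) : F₀) ^ p = 1 := by
      have h := pow_orderOf_eq_one ζ
      rw [hζ] at h
      exact congrArg (fun x : normOne (F := F₀) (q := q₀) => ((x : F₀ˣ) : F₀)) h
    have hz1 : ((ζ : F₀ˣ) : F₀) ≠ 1 := fun e => hp.ne_one (by
      rw [← hζ, orderOf_eq_one_iff]
      exact Subtype.ext (Units.ext e))
    let dd : Fin n → F₀ := fun k => if k = i0 then ((ζ : F₀ˣ) : F₀)
      else if k = i1 then ((ζ : F₀ˣ) : F₀)⁻¹ else 1
    have hdet : (Matrix.diagonal dd).det = 1 := by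
      rw [Matrix.det_diagonal, Fintype.prod_eq_mul i0 i1 h01 fun k hk => by
        simp only [dd, if_neg hk.1, if_neg hk.2]]
      simp only [dd, if_true, if_neg h01.symm]
      exact mul_inv_cancel₀ (ζ : F₀ˣ).ne_zero
    let a' : Matrix.SpecialLinearGroup (Fin n) F₀ := ⟨Matrix.diagonal dd, hdet⟩
    have hmem : a' ∈ Cfsg.SU n F₀ q₀ := by
      have hG : Matrix.SpecialLinearGroup.toGL a' ∈ Cfsg.GU n F₀ q₀ := by
        rw [mem_GU_iff_mat]
        show (Matrix.diagonal dd)ᵀ * (Matrix.diagonal dd).map (qb q₀) = 1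
        rw [Matrix.diagonal_transpose, Matrix.diagonal_map (map_zero _), Matrix.diagonal_mul_diagonal,
          ← Matrix.diagonal_one]
        congr 1
        funext k
        have hn1 : ((ζ : F₀ˣ) : F₀) * qb q₀ ((ζ : F₀ˣ) : F₀) = 1 := coe_norm_eq_one ζ.2
        simp only [dd, Function.comp_apply]
        split_ifs
        · exact hn1
        · rw [map_inv₀, ← mul_inv, hn1, inv_one]
        · rw [map_one, mul_one]
      exact hG
    refine ⟨⟨a', hmem⟩, fun hc => ?_, ?_⟩
    · obtain ⟨c, hc⟩ := scalar_of_mem_center (q := q₀) (by omega : 2 ≤ n) hc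
      have e0 := congrFun (hc (Pi.single i0 1)) i0
      have e2 := congrFun (hc (Pi.single i2 1)) i2
      simp [app, a', dd, i0, i1, i2] at e0 e2
      exact hz1 (by rw [e0, ← e2])
    · have hpow : HPow.hPow (α := ↥(Cfsg.SU n F₀ q₀)) ⟨a', hmem⟩ p = 1 := by
        refine Subtype.ext ?_
        rw [SubmonoidClass.coe_pow, OneMemClass.coe_one]
        refine PSL.sl_pow_eq_one _ p ?_
        show Matrix.diagonal dd ^ p = 1
        rw [Matrix.diagonal_pow, ← Matrix.diagonal_one]
        congr 1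
        funext k
        simp only [Pi.pow_apply, dd]
        split_ifs
        · exact hz
        · rw [inv_pow, hz, inv_one]
        · exact one_pow p
      rw [hpow]; exact one_mem _
  · obtain ⟨x, hx⟩ := exists_prime_orderOf_dvd_card' p hdvd
    have hdet : detHom x = 1 := by
      have h1 : orderOf (detHom x) ∣ p := hx ▸ orderOf_map_dvd _ x
      rcases (Nat.dvd_prime hp).1 h1 with h | h
      · exact orderOf_eq_one_iff.1 h
      · exact absurd (h ▸ orderOf_dvd_natCard _) hq
    obtain ⟨a, rfl⟩ := (mem_range_suToGU_iff x).2 hdet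
    have hinj : Function.Injective (suToGU (n := n) (F := F₀) (q := q₀)) := fun s t h =>
      Subtype.ext (Subtype.ext (congrArg (fun g : Cfsg.GU n F₀ q₀ => (g : GL (Fin n) F₀).1) h))
    rw [orderOf_injective _ hinj] at hx
    refine ⟨a, fun hc => ?_, by rw [← hx, pow_orderOf_eq_one]; exact one_mem _⟩
    obtain ⟨c, hc⟩ := scalar_of_mem_center (q := q₀) (by omega : 2 ≤ n) hc
    have hcp : c ^ p = 1 := by
      have h := congrFun (app_pow_scalar hc p (Pi.single i0 1)) i0
      rw [← hx, pow_orderOf_eq_one, app_one] at h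
      simpa [hx] using h.symm
    have hM : ((a : Matrix.SpecialLinearGroup (Fin n) F₀) : Matrix (Fin n) (Fin n) F₀) = c • 1 :=
      Matrix.toLin'.injective (LinearMap.ext fun v => by
        rw [Matrix.toLin'_apply, Matrix.toLin'_apply, Matrix.smul_mulVec, Matrix.one_mulVec]
        exact hc v)
    have hc1 : c ≠ 1 := fun e => hp.ne_one (by
      rw [← hx, orderOf_eq_one_iff]
      exact Subtype.ext (Subtype.ext (by rw [hM, e, one_smul]; rfl)))
    have hc0 : c ≠ 0 := fun e => by rw [e, zero_pow hp.ne_zero] at hcp; exact zero_ne_one hcp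
    have hmem : (Units.mk0 c hc0) ^ (q₀ + 1) = 1 := by
      refine (mem_scalars_GU_iff (n := n) (by omega) (Units.mk0 c hc0)).1 ?_
      have : (Matrix.GeneralLinearGroup.scalar (Fin n) (Units.mk0 c hc0) : GL (Fin n) F₀) =
          (suToGU a : GL (Fin n) F₀) :=
        Units.ext (by rw [suToGU_coe, hM]; simp [Matrix.GeneralLinearGroup.scalar, Matrix.smul_one_eq_diagonal])
      rw [this]
      exact (suToGU a).2
    refine hq ?_
    have hord : orderOf (⟨_, hmem⟩ : normOne (F := F₀) (q := q₀)) = p := orderOf_eq_prime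
      (Subtype.ext (Units.ext (by simpa using hcp)))
      (fun e => hc1 (congrArg (fun x : normOne (F := F₀) (q := q₀) => ((x : F₀ˣ) : F₀)) e))
    rw [← hord]
    exact orderOf_dvd_natCard _

theorem no_core (hn : 3 ≤ n) (r : ℕ) [Fact r.Prime] [CharP F₀ r] (p : ℕ) [Fact p.Prime] (hp2 : p ≠ 2)
    (hdvd : p ∣ Nat.card (Cfsg.GU n F₀ q₀))
    (N : Subgroup (Cfsg.PSU n F₀ q₀)) (hN : N.Normal) (hco : (Nat.card N).Coprime p) : N = ⊥ := by
  haveI := finite_field (F := F₀) (q := q₀)
  haveI := finite_PSU (F := F₀) (q := q₀) (n := n)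
  haveI : Fintype F₀ := Fintype.ofFinite F₀
  have hcard : Fintype.card F₀ = q₀ ^ 2 := by rw [← Nat.card_eq_fintype_card]; exact QField.card
  have hL := dvd_card_psu hn p hdvd
  by_cases h32 : n = 3 ∧ q₀ = 2
  swap
  · haveI := Cfsg.Agent.S0283.result hcard n hn h32
    exact simple_hL p hL N hN hco
  obtain ⟨rfl, rfl⟩ := h32
  have h72 := (Cfsg.Agent.S0282.result (F := F₀) (by rw [hcard]; norm_num)).1
  have hp : p.Prime := Fact.out
  rw [h72] at hL
  have hp3 : p = 3 := by
    rcases hp.dvd_mul.1 (show p ∣ 2 ^ 3 * 3 ^ 2 by norm_num; exact hL) with h | h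
    · exact absurd ((Nat.prime_dvd_prime_iff_eq hp Nat.prime_two).1 (hp.dvd_of_dvd_pow h)) hp2
    · exact (Nat.prime_dvd_prime_iff_eq hp Nat.prime_three).1 (hp.dvd_of_dvd_pow h)
  subst hp3
  have hr : r = 2 := by
    obtain ⟨k, hr', hk⟩ := FiniteField.card F₀ r
    rw [hcard] at hk
    have : r ∣ 2 ^ 2 := hk ▸ dvd_pow_self r k.ne_zero
    exact (Nat.prime_dvd_prime_iff_eq hr' Nat.prime_two).1 (hr'.dvd_of_dvd_pow this)
  subst hr
  have hNd : Nat.card N ∣ 2 ^ 3 := by
    have h := Subgroup.card_subgroup_dvd_card N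
    rw [h72, show (72 : ℕ) = 2 ^ 3 * 3 ^ 2 by norm_num] at h
    exact (hco.pow_right 2).dvd_of_dvd_mul_right h
  obtain ⟨i, -, hi⟩ := (Nat.dvd_prime_pow Nat.prime_two).1 hNd
  exact normal_pgroup_trivial 2 (by norm_num) N (IsPGroup.of_card hi)

end Small

section Criterion

variable {F : Type u} [Field F] {q : ℕ} [hQ : QField F q] {n : ℕ}
  {F₀ : Type v} [Field F₀] {q₀ : ℕ} [hQ₀ : QField F₀ q₀]
include hQ hQ₀

/-- The criterion for a standard field automorphism of odd prime order. -/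
theorem field_criterion [Fintype F] (r : ℕ) [Fact r.Prime] [CharP F r] (hn : 3 ≤ n) (h32 : ¬ (n = 3 ∧ q = 2))
    (τ : F ≃+* F) (j : F₀ →+* F) (hj : ∀ a, τ a = a ↔ a ∈ j.range) (hjσ : ∀ a, j (qb q₀ a) = qb q (j a))
    (p : ℕ) [Fact p.Prime] (hp2 : p ≠ 2) (hτ : orderOf τ = p)
    (A : Subgroup (MulAut (Cfsg.PSU n F q))) (hinn : ∀ k, MulAut.conj k ∈ A) :
    Cfsg.pPrimeCore p ↥(A ⊓ Subgroup.centralizer {(stdF τ : MulAut (Cfsg.PSU n F q))}) ≠ ⊥ ↔
      Nat.Coprime p (Nat.card ↥(Fix (stdF τ : MulAut (Cfsg.PSU n F q)))) := by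
  have hp : p.Prime := Fact.out
  haveI := finite_PSU (F := F) (q := q) (n := n)
  haveI := finite_PSU (F := F₀) (q := q₀) (n := n)
  haveI : CharP F₀ r := (j.charP_iff j.injective r).2 inferInstance
  have hinj := conj_injective (F := F) (q := q) r hn
  have hr0 : 0 < orderOf τ := hτ ▸ hp.pos
  constructor
  · intro hne
    by_contra hco
    rw [hp.coprime_iff_not_dvd, not_not] at hco
    refine hne (core_eq_bot A hinn _ hinj p ?_ fun d _ hd => ?_)
    · exact core_fix_eq_bot _ p (jU j hjσ hn) (jU_injective j hjσ hn) (stdF_jU τ j hj hjσ hn)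
        (normal_jU τ j hj hjσ hn r h32 hr0) (fun k _ => centralizer_jU j hjσ hn r h32 k)
        (no_core hn r p hp2 (hco.trans (card_fix_dvd τ j hj hjσ hn r h32 hr0)))
    · obtain ⟨ρ, hρ, rfl⟩ := stab_jU j hjσ hn r d h32 fun l => hd _ (stdF_jU τ j hj hjσ hn l)
      rw [stdF_pow, ← hτ, PSL.pow_eq_one_of_fix τ ρ hr0 (fun a ha => by
        obtain ⟨b, rfl⟩ := (hj a).1 ha
        exact hρ b), show (1 : F ≃+* F) = RingEquiv.refl F from rfl, stdF_refl]
  · refine core_ne_bot A hinn _ hinj p fun hbot => ?_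
    obtain ⟨x, hx, hxx⟩ := exists_isotropic (F := F₀) (q := q₀) (n := n) (by omega)
    obtain ⟨t, ht, hT⟩ := exists_isT hxx
    have h1 : jU j hjσ hn (proj n F₀ q₀ (tr x t hT)) ∈ Fix (stdF τ : MulAut (Cfsg.PSU n F q)) :=
      stdF_jU τ j hj hjσ hn _
    rw [hbot, Subgroup.mem_bot] at h1
    have h3 : tr x t hT = 1 := eq_of_proj_eq r (by omega) (tr_pow_sq r hT) (l := 0) (one_pow _)
      ((jU_injective j hjσ hn (h1.trans (map_one _).symm)).trans (map_one _).symm)
    obtain ⟨w, hw⟩ := exists_H_eq_one (q := q₀) hx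
    have h4 := congrArg (fun s => app s w) h3
    simp [hw, app_one, ht, hx] at h4

end Criterion

end Cfsg.Agent.LocalBal.PSU
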