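import Mathlib
import Cfsg.Agent.Lib.LocalBal.PSLGraph

/-!
# Semilinear maps centralising the isometries of a form over a subfield
-/

set_option autoImplicit false
set_option linter.unusedSectionVars false
set_option linter.unusedSimpArgs false
set_option linter.style.haveILetI false

namespace Cfsg.Agent.LocalBal.Semi

open Matrix Cfsg.Agent.AutPSL Cfsg.Agent.LocalBal.PSL

universe u v

variable {F : Type u} [Field F] {F₀ : Type v} [Field F₀] (j : F₀ →+* F) {n : ℕ}

local notation "Mat" => Matrix (Fin n) (Fin n) F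
local notation "Mat₀" => Matrix (Fin n) (Fin n) F₀
local notation "SL₀" => Matrix.SpecialLinearGroup (Fin n) F₀

/-- Conclusion from a monomial shape. -/
theorem scalar_of_diag_key (hn : 2 ≤ n) (g : GL (Fin n) F) (τ : F ≃+* F)
    (hoff : ∀ k a : Fin n, k ≠ a → (g : Mat) k a = 0)
    (key : ∀ a b : Fin n, a ≠ b → ∀ y : F₀, (g : Mat) b b * τ (j y) = (g : Mat) a a * j y) :
    (∃ c : F, (g : Mat) = c • 1) ∧ ∀ a, τ (j a) = j a := by
  let i0 : Fin n := ⟨0, by omega⟩
  have heq : ∀ a, (g : Mat) a a = (g : Mat) i0 i0 := fun a => by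
    by_cases h : a = i0
    · rw [h]
    · simpa using key i0 a (Ne.symm h) 1
  have hg0 : (g : Mat) i0 i0 ≠ 0 := fun e => by
    refine ((Matrix.isUnit_iff_isUnit_det (g : Mat)).mp g.isUnit).ne_zero
      (Matrix.det_eq_zero_of_column_eq_zero i0 fun k => ?_)
    by_cases h : k = i0
    · rw [h, e]
    · exact hoff k i0 h
  refine ⟨⟨(g : Mat) i0 i0, ?_⟩, fun y => ?_⟩
  · ext a b
    rcases eq_or_ne a b with rfl | hab
    · simp [heq a]
    · simp [hoff a b hab, hab]
  · have h1 := key i0 ⟨1, by omega⟩ (fun e => by simpa [i0] using congrArg Fin.val e) y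
    rw [heq] at h1
    exact mul_left_cancel₀ hg0 h1

variable (r : ℕ) [Fact r.Prime] [CharP F₀ r] (hn : 3 ≤ n)

include r hn

/-- Alternating forms. -/
theorem scalar_of_skew (h2 : (2 : F₀) ≠ 0) (M : GL (Fin n) F₀) (hM : (M : Mat₀)ᵀ = -(M : Mat₀))
    (g : GL (Fin n) F) (τ : F ≃+* F)
    (hfix : ∀ k : SL₀, Matrix.SpecialLinearGroup.toGL k ∈ isom (M : Mat₀) → k ^ r = 1 →
      (g : Mat) * ((k : Mat₀).map j).map τ = (k : Mat₀).map j * (g : Mat)) :
    (∃ c : F, (g : Mat) = c • 1) ∧ ∀ a, τ (j a) = j a := by
  have halt : ∀ v : Fin n → F₀, ((M : Mat₀) *ᵥ v) ⬝ᵥ v = 0 := fun v => by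
    have h : ((M : Mat₀) *ᵥ v) ⬝ᵥ v = -(((M : Mat₀) *ᵥ v) ⬝ᵥ v) := by
      conv_lhs => rw [dotProduct_comm, Matrix.dotProduct_mulVec, ← Matrix.mulVec_transpose, hM, Matrix.neg_mulVec,
        neg_dotProduct]
    exact (mul_eq_zero.1 (show (2 : F₀) * _ = 0 by linear_combination h)).resolve_left h2
  have hline : ∀ v : Fin n → F₀, v ≠ 0 →
      ∃ μ : F, (g : Mat) *ᵥ (fun i => τ (j (v i))) = μ • fun i => j (v i) := by
    intro v hv
    set w := (M : Mat₀) *ᵥ v with hw
    have hw0 : w ≠ 0 := fun h => hv (by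
      have := congrArg (fun z => ((M⁻¹ : GL (Fin n) F₀) : Mat₀) *ᵥ z) h
      simpa [hw, Matrix.mulVec_mulVec, Units.inv_mul] using this)
    set X := Matrix.vecMulVec v w with hX
    have hXX : X * X = 0 := by rw [hX, Matrix.vecMulVec_mul_vecMulVec, halt v]; simp
    have hdet : (1 + X).det = 1 := by
      rw [hX, Matrix.vecMulVec_eq (ι := Unit), Matrix.det_one_add_replicateCol_mul_replicateRow, halt v, add_zero]
    let t : SL₀ := ⟨1 + X, hdet⟩
    have hpow : ∀ k : ℕ, (1 + X) ^ k = 1 + (k : F₀) • X := by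
      intro k
      induction k with
      | zero => simp
      | succ k ih =>
        rw [pow_succ, ih, add_mul, one_mul, Matrix.smul_mul, mul_add, mul_one, hXX, add_zero, Nat.cast_succ,
          add_smul, one_smul]
        abel
    have htr : t ^ r = 1 := sl_pow_eq_one _ _ (by
      rw [hpow, CharP.cast_eq_zero, zero_smul, add_zero])
    have hmem : Matrix.SpecialLinearGroup.toGL t ∈ isom (M : Mat₀) := by
      rw [mem_isom]
      show (1 + X)ᵀ * (M : Mat₀) * (1 + X) = _
      have e1 : (M : Mat₀) * X = Matrix.vecMulVec w w := by rw [hX, Matrix.mul_vecMulVec, ← hw]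
      have e2 : Xᵀ * (M : Mat₀) = -Matrix.vecMulVec w w := by
        rw [hX, Matrix.transpose_vecMulVec, Matrix.vecMulVec_mul, ← Matrix.mulVec_transpose, hM, Matrix.neg_mulVec,
          ← hw, Matrix.vecMulVec_neg]
      have e3 : Matrix.vecMulVec w w * X = 0 := by
        rw [hX, Matrix.vecMulVec_mul_vecMulVec, halt v]; simp
      rw [Matrix.transpose_add, Matrix.transpose_one, add_mul, one_mul, e2, mul_add, mul_one, add_mul, e1,
        neg_mul, e3, neg_zero, add_zero, neg_add_cancel_right]
    have hM' : (g : Mat) * ((1 + X).map j).map τ = (1 + X).map j * (g : Mat) := hfix t hmem htr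
    rw [Matrix.map_add _ (map_add j), Matrix.map_one _ (map_zero j) (map_one j),
      Matrix.map_add _ (map_add τ), Matrix.map_one _ (map_zero τ) (map_one τ), mul_add, mul_one, add_mul,
      one_mul, add_right_inj, hX, show (Matrix.vecMulVec v w).map j =
        Matrix.vecMulVec (fun i => j (v i)) (fun i => j (w i)) by ext a b; simp [Matrix.vecMulVec],
      show (Matrix.vecMulVec (fun i => j (v i)) (fun i => j (w i))).map τ =
        Matrix.vecMulVec (fun i => τ (j (v i))) (fun i => τ (j (w i))) by ext a b; simp [Matrix.vecMulVec],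
      Matrix.mul_vecMulVec, Matrix.vecMulVec_mul] at hM'
    obtain ⟨k, hk⟩ := Function.ne_iff.1 hw0
    have hk' : τ (j (w k)) ≠ 0 := by simpa using hk
    refine ⟨((fun i => j (w i)) ᵥ* (g : Mat)) k / τ (j (w k)), funext fun i => ?_⟩
    have h := congrFun (congrFun hM' i) k
    simp only [Matrix.vecMulVec_apply] at h
    rw [Pi.smul_apply, smul_eq_mul, div_mul_eq_mul_div, eq_div_iff hk', h, mul_comm]
  have hcol : ∀ a, (fun i => τ (j ((Pi.single a (1 : F₀) : Fin n → F₀) i))) = Pi.single a 1 := fun a => by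
    funext i; simp [Pi.single_apply, apply_ite j, apply_ite τ]
  have hoff : ∀ k a : Fin n, k ≠ a → (g : Mat) k a = 0 := by
    intro k a hka
    obtain ⟨μ, hμ⟩ := hline (Pi.single a 1) (fun h => (one_ne_zero : (1 : F₀) ≠ 0) (by simpa using congrFun h a))
    rw [hcol, Matrix.mulVec_single_one] at hμ
    simpa [hka] using congrFun hμ k
  have hdiag : (g : Mat) = Matrix.diagonal fun i => (g : Mat) i i := by
    ext i l
    rcases eq_or_ne i l with rfl | hij
    · simp
    · simp [hij, hoff i l hij]
  refine scalar_of_diag_key j (by omega) g τ hoff fun a b hab y => ?_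
  obtain ⟨μ, hμ⟩ := hline (fun i => if i = a then 1 else if i = b then y else 0)
    (fun h => (one_ne_zero : (1 : F₀) ≠ 0) (by simpa using congrFun h a))
  rw [hdiag] at hμ
  have ea := congrFun hμ a
  have eb := congrFun hμ b
  rw [Matrix.mulVec_diagonal] at ea eb
  simp [hab.symm] at ea eb
  rw [eb, ea]

/-- Diagonal symmetric forms. -/
theorem scalar_of_diag [Finite F₀] (h2 : (2 : F₀) ≠ 0) (M : GL (Fin n) F₀) (D : Fin n → F₀)
    (hD : (M : Mat₀) = Matrix.diagonal D) (g : GL (Fin n) F) (τ : F ≃+* F)
    (hfix : ∀ k : SL₀, Matrix.SpecialLinearGroup.toGL k ∈ isom (M : Mat₀) →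
      ∃ c : F, (g : Mat) * ((k : Mat₀).map j).map τ = c • ((k : Mat₀).map j * (g : Mat)))
    (hinv : ∀ k : SL₀, Matrix.SpecialLinearGroup.toGL k ∈ isom (M : Mat₀) → k * k = 1 →
      (g : Mat) * ((k : Mat₀).map j).map τ = (k : Mat₀).map j * (g : Mat)) :
    (∃ c : F, (g : Mat) = c • 1) ∧ ∀ a, τ (j a) = j a := by
  classical
  haveI : Fintype F₀ := Fintype.ofFinite F₀
  have h2F : (2 : F) ≠ 0 := by rw [← map_ofNat j 2]; exact fun h => h2 (j.injective (h.trans (map_zero j).symm))
  have hD0 : ∀ i, D i ≠ 0 := fun i => by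
    have h := ((Matrix.isUnit_iff_isUnit_det (M : Mat₀)).mp M.isUnit).ne_zero
    rw [hD, Matrix.det_diagonal, Finset.prod_ne_zero_iff] at h
    exact h i (Finset.mem_univ i)
  have third : ∀ a b : Fin n, ∃ k : Fin n, k ≠ a ∧ k ≠ b := by
    intro a b
    by_contra hcon
    push Not at hcon
    have : (Finset.univ : Finset (Fin n)) ⊆ {a, b} := fun i _ => by
      by_cases hi : i = a
      · simp [hi]
      · simp [hcon i hi]
    have := (Finset.card_le_card this).trans Finset.card_le_two
    simp at this
    omega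
  -- the monomial part
  have hoff : ∀ i l : Fin n, i ≠ l → (g : Mat) i l = 0 := by
    intro i l hil
    obtain ⟨k, hki, hkl⟩ := third i l
    let δ : Fin n → F₀ := fun x => if x = i ∨ x = k then -1 else 1
    have hdet : (Matrix.diagonal δ).det = 1 := by
      rw [Matrix.det_diagonal, Fintype.prod_eq_mul i k hki.symm fun x hx => by simp [δ, hx.1, hx.2]]
      simp [δ]
    let s : SL₀ := ⟨Matrix.diagonal δ, hdet⟩
    have hδ : ∀ x, δ x * δ x = 1 := fun x => by simp only [δ]; split_ifs <;> ring
    have hmem : Matrix.SpecialLinearGroup.toGL s ∈ isom (M : Mat₀) := by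
      rw [mem_isom]
      show (Matrix.diagonal δ)ᵀ * (M : Mat₀) * Matrix.diagonal δ = _
      rw [hD, Matrix.diagonal_transpose, Matrix.diagonal_mul_diagonal, Matrix.diagonal_mul_diagonal]
      congr 1
      funext x
      linear_combination D x * hδ x
    have hs2 : s * s = 1 := Subtype.ext (by
      show Matrix.diagonal δ * Matrix.diagonal δ = 1
      rw [Matrix.diagonal_mul_diagonal, ← Matrix.diagonal_one]
      exact congrArg _ (funext hδ))
    have h := hinv s hmem hs2
    have h' := congrFun (congrFun h i) l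
    rw [show (s : Mat₀) = Matrix.diagonal δ from rfl, Matrix.diagonal_map (map_zero j),
      Matrix.diagonal_map (map_zero τ), Matrix.diagonal_mul, Matrix.mul_diagonal] at h'
    have e1 : δ i = -1 := by simp [δ]
    have e2 : δ l = 1 := by simp [δ, hil.symm, hkl.symm]
    simp only [Function.comp_apply, e1, e2, map_neg, map_one] at h'
    exact (mul_eq_zero.1 (show (2 : F) * (g : Mat) i l = 0 by linear_combination h')).resolve_left h2F
  have hg0 : ∀ i, (g : Mat) i i ≠ 0 := fun i e => by
    refine ((Matrix.isUnit_iff_isUnit_det (g : Mat)).mp g.isUnit).ne_zero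
      (Matrix.det_eq_zero_of_column_eq_zero i fun k => ?_)
    by_cases h : k = i
    · rw [h, e]
    · exact hoff k i h
  -- products of two reflections
  have refl2 : ∀ (v : Fin n → F₀) (a k : Fin n), (∑ i, v i * (D i * v i)) ≠ 0 → k ≠ a →
      (1 - 2 / (∑ i, v i * (D i * v i)) * (v k * (D k * v k)) = 1 ∨
        1 - 2 / (∑ i, v i * (D i * v i)) * (v k * (D k * v k)) = -1) →
      ∀ i l : Fin n, l ≠ a →
        (g : Mat) i i * τ (j ((if i = l then 1 else 0) - 2 / (∑ i, v i * (D i * v i)) * (v i * (D l * v l)))) =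
          j ((if i = l then 1 else 0) - 2 / (∑ i, v i * (D i * v i)) * (v i * (D l * v l))) * (g : Mat) l l := by
    intro v a k hQ hka hkk
    set Q := ∑ i, v i * (D i * v i) with hQdef
    set w : Fin n → F₀ := fun i => D i * v i with hw
    let δ : Fin n → F₀ := fun x => if x = a then -1 else 1
    let X : Mat₀ := (-(2 / Q)) • Matrix.vecMulVec v w
    let N : Mat₀ := (1 + X) * Matrix.diagonal δ
    have hwv : w ⬝ᵥ v = Q := by
      rw [hQdef, dotProduct]
      exact Finset.sum_congr rfl fun i _ => by simp [hw]; ring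
    have hdet : N.det = 1 := by
      rw [Matrix.det_mul, Matrix.det_diagonal, Fintype.prod_eq_single a fun x hx => by simp [δ, hx]]
      rw [show (1 + X).det = 1 + w ⬝ᵥ ((-(2 / Q)) • v) by
        show (1 + (-(2 / Q)) • Matrix.vecMulVec v w).det = _
        rw [← Matrix.smul_vecMulVec, Matrix.vecMulVec_eq (ι := Unit),
          Matrix.det_one_add_replicateCol_mul_replicateRow]]
      rw [dotProduct_smul, hwv, smul_eq_mul]
      simp only [δ, if_true]
      field_simp
      ring
    let s : SL₀ := ⟨N, hdet⟩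
    have hBX : (M : Mat₀) * X = (-(2 / Q)) • Matrix.vecMulVec w w := by
      rw [show X = (-(2 / Q)) • Matrix.vecMulVec v w from rfl, Matrix.mul_smul, Matrix.mul_vecMulVec, hD]
      congr 2
      funext x
      rw [Matrix.mulVec_diagonal]
    have hXB : Xᵀ * (M : Mat₀) = (-(2 / Q)) • Matrix.vecMulVec w w := by
      have hBt : (M : Mat₀)ᵀ = M := by rw [hD, Matrix.diagonal_transpose]
      have := congrArg Matrix.transpose hBX
      rw [Matrix.transpose_mul, hBt, Matrix.transpose_smul _ (Matrix.vecMulVec w w),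
        Matrix.transpose_vecMulVec w w] at this
      exact this
    have hmem : Matrix.SpecialLinearGroup.toGL s ∈ isom (M : Mat₀) := by
      rw [mem_isom]
      show Nᵀ * (M : Mat₀) * N = _
      have e1 : (1 + X)ᵀ * (M : Mat₀) * (1 + X) = (M : Mat₀) := by
        rw [Matrix.transpose_add, Matrix.transpose_one, add_mul, one_mul, hXB, mul_add, mul_one, add_mul, hBX,
          show ((-(2 / Q)) • Matrix.vecMulVec w w) * X = ((-(2 / Q)) * (-(2 / Q)) * Q) • Matrix.vecMulVec w w by
            show _ * ((-(2 / Q)) • Matrix.vecMulVec v w) = _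
            rw [Matrix.smul_mul, Matrix.mul_smul, Matrix.vecMulVec_mul_vecMulVec, hwv, Matrix.vecMulVec_smul,
              smul_smul, smul_smul]]
        rw [add_assoc, add_eq_left, ← add_smul, ← add_smul]
        convert zero_smul F₀ (Matrix.vecMulVec w w)
        field_simp
        ring
      have e2 : (Matrix.diagonal δ)ᵀ * (M : Mat₀) * Matrix.diagonal δ = (M : Mat₀) := by
        rw [hD, Matrix.diagonal_transpose, Matrix.diagonal_mul_diagonal, Matrix.diagonal_mul_diagonal]
        congr 1
        funext x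
        simp only [δ]
        split_ifs <;> ring
      rw [Matrix.transpose_mul,
        show (Matrix.diagonal δ)ᵀ * (1 + X)ᵀ * (M : Mat₀) * ((1 + X) * Matrix.diagonal δ) =
          (Matrix.diagonal δ)ᵀ * ((1 + X)ᵀ * (M : Mat₀) * (1 + X)) * Matrix.diagonal δ by noncomm_ring, e1, e2]
    obtain ⟨c, h⟩ := hfix s hmem
    have hN : ∀ i l, N i l = ((if i = l then 1 else 0) - 2 / Q * (v i * (D l * v l))) * δ l := fun i l => by
      simp only [N, X, Matrix.mul_diagonal, Matrix.add_apply, Matrix.smul_apply, Matrix.vecMulVec_apply,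
        Matrix.one_apply, smul_eq_mul, hw]
      ring
    have hentry : ∀ i l, c * j (N i l) * (g : Mat) l l = (g : Mat) i i * τ (j (N i l)) := by
      intro i l
      have h' := congrFun (congrFun h i) l
      rw [show (s : Mat₀) = N from rfl, Matrix.smul_apply, smul_eq_mul,
        Matrix.mul_apply, Finset.sum_eq_single i (fun x _ hx => by rw [hoff i x (Ne.symm hx), zero_mul])
          (fun hx => absurd (Finset.mem_univ _) hx),
        Matrix.mul_apply, Finset.sum_eq_single l (fun x _ hx => by rw [hoff x l hx, mul_zero])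
          (fun hx => absurd (Finset.mem_univ _) hx), Matrix.map_apply, Matrix.map_apply,
        ← mul_assoc] at h'
      exact h'.symm
    have hc1 : c = 1 := by
      have hk := hentry k k
      have hNk : N k k = 1 ∨ N k k = -1 := by
        rw [hN, if_pos rfl, show δ k = 1 by simp [δ, hka], mul_one]
        exact hkk
      rcases hNk with e | e <;> rw [e] at hk <;>
        simp only [map_neg, map_one, mul_neg, neg_mul, mul_one, neg_inj] at hk
      · exact mul_right_cancel₀ (hg0 k) (hk.trans (one_mul _).symm)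
      · exact mul_right_cancel₀ (hg0 k) (hk.trans (one_mul _).symm)
    intro i l hla
    have := hentry i l
    rw [hc1, one_mul, hN, show δ l = 1 by simp [δ, hla], mul_one] at this
    exact this.symm
  have hsq : ∀ a b : Fin n, a ≠ b → ∀ t : F₀, τ (j (D b / D a * (t * t))) = j (D b / D a * (t * t)) := by
    intro a b hab t
    by_cases hQ0 : D a + D b * (t * t) = 0
    · have : D b / D a * (t * t) = -1 := by
        field_simp [hD0 a]
        linear_combination hQ0
      rw [this, map_neg, map_one, map_neg, map_one]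
    obtain ⟨k, hka, hkb⟩ := third a b
    let v : Fin n → F₀ := fun i => if i = a then 1 else if i = b then t else 0
    have hQv : ∑ i, v i * (D i * v i) = D a + D b * (t * t) := by
      rw [Fintype.sum_eq_add a b hab fun i hi => by simp [v, hi.1, hi.2]]
      simp [v, hab.symm]
      ring
    have h := refl2 v b k (by rw [hQv]; exact hQ0) hkb (Or.inl (by simp [v, hka, hkb])) a a hab
    rw [if_pos rfl, hQv, show v a = 1 by simp [v], one_mul, mul_one, mul_comm] at h
    have h1 := mul_right_cancel₀ (hg0 a) h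
    -- transport to the composite
    let φ : F₀ →+* F := (τ : F →+* F).comp j
    have hφ : ∀ x, φ x = τ (j x) := fun x => rfl
    rw [← hφ] at h1 ⊢
    rw [map_sub, map_one, map_sub, map_one, sub_right_inj, map_mul, map_div₀, map_ofNat, map_mul, map_div₀,
      map_ofNat] at h1
    have e0 : (D a + D b * (t * t)) / D a = 1 + D b / D a * (t * t) := by
      rw [add_div, div_self (hD0 a), mul_div_right_comm]
    have hne : φ (D a + D b * (t * t)) ≠ 0 := fun h => hQ0 (φ.injective (h.trans (map_zero φ).symm))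
    have hne' : j (D a + D b * (t * t)) ≠ 0 := fun h => hQ0 (j.injective (h.trans (map_zero j).symm))
    have e : φ ((D a + D b * (t * t)) / D a) = j ((D a + D b * (t * t)) / D a) := by
      rw [map_div₀, map_div₀]
      rw [div_mul_eq_mul_div, div_mul_eq_mul_div, div_eq_div_iff hne hne', mul_assoc, mul_assoc] at h1
      have h1' := mul_left_cancel₀ h2F h1
      rw [div_eq_div_iff (fun h => hD0 a (φ.injective (h.trans (map_zero φ).symm)))
        (fun h => hD0 a (j.injective (h.trans (map_zero j).symm)))]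
      linear_combination -h1'
    rw [e0, map_add, map_one, map_add, map_one, add_right_inj] at e
    exact e
  have hτ : ∀ a, τ (j a) = j a := by
    obtain ⟨a, b, hab, u, hu⟩ : ∃ a b : Fin n, a ≠ b ∧ IsSquare (D b / D a) ∧ True := by
      let i0 : Fin n := ⟨0, by omega⟩
      let i1 : Fin n := ⟨1, by omega⟩
      let i2 : Fin n := ⟨2, by omega⟩
      by_cases h01 : IsSquare (D i1 / D i0)
      · exact ⟨i0, i1, fun e => by simpa [i0, i1] using congrArg Fin.val e, h01, trivial⟩
      by_cases h02 : IsSquare (D i2 / D i0)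
      · exact ⟨i0, i2, fun e => by simpa [i0, i2] using congrArg Fin.val e, h02, trivial⟩
      refine ⟨i1, i2, fun e => by simpa [i1, i2] using congrArg Fin.val e, ?_, trivial⟩
      have hr2 : ringChar F₀ ≠ 2 := Spinor.ringChar_ne_two h2
      have hx : ∀ i l : Fin n, D i / D l ≠ 0 := fun i l => div_ne_zero (hD0 i) (hD0 l)
      rw [← quadraticChar_neg_one_iff_not_isSquare] at h01 h02
      rw [← quadraticChar_one_iff_isSquare (hx _ _)]
      have : D i2 / D i1 = (D i2 / D i0) * (D i1 / D i0) * ((D i0 / D i1) * (D i0 / D i1)) := by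
        field_simp [hD0]
      rw [this, map_mul, map_mul, h01, h02, map_mul, ← sq (quadraticChar F₀ _), quadraticChar_sq_one (hx _ _)]
      norm_num
    obtain ⟨u, hu⟩ := u
    have hu0 : u ≠ 0 := fun e => div_ne_zero (hD0 b) (hD0 a) (by rw [hu, e, mul_zero])
    have hs : ∀ y, τ (j (y * y)) = j (y * y) := fun y => by
      have h := hsq a b hab (y / u)
      rwa [hu, show u * u * (y / u * (y / u)) = y * y by field_simp] at h
    intro x
    have e : x = ((x + 1) / 2) * ((x + 1) / 2) - ((x - 1) / 2) * ((x - 1) / 2) := by field_simp; ring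
    rw [e, map_sub, map_sub, hs, hs]
  have heq : ∀ a b : Fin n, a ≠ b → (g : Mat) a a = (g : Mat) b b := by
    intro a b hab
    obtain ⟨k, hka, hkb⟩ := third a b
    let v : Fin n → F₀ := fun i => if i = a ∨ i = b then 1 else if i = k ∧ D a + D b = 0 then 1 else 0
    have hva : v a = 1 := by simp [v]
    have hvb : v b = 1 := by simp [v]
    have hQv : ∑ i, v i * (D i * v i) = if D a + D b = 0 then D k else D a + D b := by
      rw [← Finset.sum_subset (Finset.subset_univ ({a, b, k} : Finset (Fin n)))
        (fun i _ hi => by simp at hi; simp [v, hi.1, hi.2.1, hi.2.2]),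
        Finset.sum_insert (by simp [hab, hka.symm]), Finset.sum_insert (by simp [hkb.symm]), Finset.sum_singleton,
        hva, hvb]
      split_ifs with h
      · simp [v, hka, hkb, h]
        linear_combination h
      · simp [v, hka, hkb, h]
    obtain ⟨Q, hQ, hQ0⟩ : ∃ Q, (∑ i, v i * (D i * v i)) = Q ∧ Q ≠ 0 :=
      ⟨_, hQv, by split_ifs with h; exacts [hD0 k, h]⟩
    have hkk : 1 - 2 / Q * (v k * (D k * v k)) = 1 ∨ 1 - 2 / Q * (v k * (D k * v k)) = -1 := by
      by_cases h : D a + D b = 0
      · refine Or.inr ?_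
        rw [if_pos h, hQ] at hQv
        simp [v, hka, hkb, h, hQv]
        field_simp [hD0 k]
        ring
      · exact Or.inl (by simp [v, hka, hkb, h])
    have h := refl2 v a k (by rw [hQ]; exact hQ0) hka (by rw [hQ]; exact hkk) a b hab.symm
    rw [hQ, hτ, if_neg hab, hva, hvb, zero_sub, mul_comm] at h
    refine mul_left_cancel₀ ?_ h
    rw [map_ne_zero, neg_ne_zero]
    exact mul_ne_zero (div_ne_zero h2 hQ0) (by simpa using hD0 b)
  exact scalar_of_diag_key j (by omega) g τ hoff fun a b hab y => by rw [hτ, heq a b hab]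

end Cfsg.Agent.LocalBal.Semi
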