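import Mathlib
import Cfsg.Agent.Lib.LocalBal.CoreTwo
import Cfsg.Agent.Lib.LocalBal.PSUField
import Cfsg.Agent.Lib.LocalBal.Semilinear
import Cfsg.Agent.Lib.AutPSU.GraphField

/-!
# Cores of centralisers of graph involutions of `PSU_n`
-/

set_option autoImplicit false
set_option linter.unusedSectionVars false
set_option linter.style.haveILetI false

namespace Cfsg.Agent.LocalBal.PSU

open Matrix Cfsg.Agent.AutPSU
open Cfsg.Agent.LocalBal.PSL (isom mem_isom odd_skew odd_symm)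
open Cfsg.Agent.AutPSL (glMap glMap_coe simB)

universe u v

variable {F : Type u} [Field F] [Fintype F] {q : ℕ} [hQ : QField F q] {n : ℕ}
  {F₀ : Type v} [Field F₀] (j : F₀ →+* F) (hj : ∀ a : F, qb (F := F) q a = a ↔ a ∈ j.range)

local notation "σ" => qb (F := F) q
local notation "Mat" => Matrix (Fin n) (Fin n) F
local notation "Mat₀" => Matrix (Fin n) (Fin n) F₀
set_option quotPrecheck false in
local notation "SUn" => ↥(Cfsg.SU n F q)
local notation "PSUn" => Cfsg.PSU n F q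
set_option quotPrecheck false in
local notation "GUn" => ↥(Cfsg.GU n F q)

/-- The descended data of a graph involution. -/
structure Data (B : ↥(Cfsg.GU n F q)) (M : GL (Fin n) F₀) (h : GL (Fin n) F) (μ s : Fˣ) : Prop where
  hB : ((μ : F) • ((B : GL (Fin n) F) : Mat)) * (h : Mat).map σ = h
  hC : (h : Mat)ᵀ * (h : Mat).map σ = (s : F) • (M : Mat₀).map j

variable {B : ↥(Cfsg.GU n F q)} {M : GL (Fin n) F₀} {h : GL (Fin n) F} {μ s : Fˣ}

/-- The conjugate of a matrix over the subfield. -/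
def ec (h : GL (Fin n) F) (k : GL (Fin n) F₀) : GL (Fin n) F :=
  h * Matrix.GeneralLinearGroup.map j k * h⁻¹

theorem ec_val (k : GL (Fin n) F₀) :
    ((ec j h k : GL (Fin n) F) : Mat) = (h : Mat) * (k : Mat₀).map j * ((h⁻¹ : GL (Fin n) F) : Mat) := rfl

theorem ec_mul (a b : GL (Fin n) F₀) : ec j h (a * b) = ec j h a * ec j h b := by
  simp only [ec, map_mul]
  group

include hQ in
theorem map_inv_mul : ((h⁻¹ : GL (Fin n) F) : Mat).map σ * (h : Mat).map σ = 1 := by
  rw [← Matrix.map_mul, Units.inv_mul, Matrix.map_one _ (map_zero σ) (map_one σ)]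

include hQ in
theorem map_mul_inv : (h : Mat).map σ * ((h⁻¹ : GL (Fin n) F) : Mat).map σ = 1 := by
  rw [← Matrix.map_mul, Units.mul_inv, Matrix.map_one _ (map_zero σ) (map_one σ)]

include hQ hj

theorem ec_map (k : GL (Fin n) F₀) : (((ec j h k : GL (Fin n) F) : Mat)).map σ =
    (h : Mat).map σ * (k : Mat₀).map j * ((h⁻¹ : GL (Fin n) F) : Mat).map σ := by
  rw [ec_val, Matrix.map_mul, Matrix.map_mul, smap_j j hj]

theorem ec_mem (hD : Data j B M h μ s) {k : GL (Fin n) F₀} (hk : k ∈ isom (M : Mat₀)) :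
    ec j h k ∈ Cfsg.GU n F q := by
  rw [mem_GU_iff_mat, ec_map j hj, ec_val, Matrix.transpose_mul, Matrix.transpose_mul]
  have e : ((k : Mat₀).map j)ᵀ * ((M : Mat₀).map j) * (k : Mat₀).map j = (M : Mat₀).map j := by
    rw [← Matrix.transpose_map, ← Matrix.map_mul, ← Matrix.map_mul, mem_isom.1 hk]
  calc ((h⁻¹ : GL (Fin n) F) : Mat)ᵀ * (((k : Mat₀).map j)ᵀ * (h : Mat)ᵀ) *
        ((h : Mat).map σ * (k : Mat₀).map j * ((h⁻¹ : GL (Fin n) F) : Mat).map σ)
      = ((h⁻¹ : GL (Fin n) F) : Mat)ᵀ * (((k : Mat₀).map j)ᵀ * ((h : Mat)ᵀ * (h : Mat).map σ) *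
          (k : Mat₀).map j) * ((h⁻¹ : GL (Fin n) F) : Mat).map σ := by simp only [Matrix.mul_assoc]
    _ = ((h⁻¹ : GL (Fin n) F) : Mat)ᵀ * ((h : Mat)ᵀ * (h : Mat).map σ) *
          ((h⁻¹ : GL (Fin n) F) : Mat).map σ := by
        rw [hD.hC, Matrix.mul_smul, Matrix.smul_mul, e]
    _ = 1 := by
        rw [← Matrix.mul_assoc, ← Matrix.transpose_mul, Units.mul_inv, Matrix.transpose_one, Matrix.one_mul,
          map_mul_inv]

/-- The isometries inside the general unitary group. -/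
def emb (hD : Data j B M h μ s) : isom (M : Mat₀) →* GUn where
  toFun k := ⟨ec j h k, ec_mem j hj hD k.2⟩
  map_one' := Subtype.ext (by simp [ec])
  map_mul' a b := Subtype.ext (ec_mul j a.1 b.1)

theorem emb_val (hD : Data j B M h μ s) (k : isom (M : Mat₀)) :
    ((emb j hj hD k : GUn) : GL (Fin n) F).1 = (h : Mat) * ((k : GL (Fin n) F₀) : Mat₀).map j *
      ((h⁻¹ : GL (Fin n) F) : Mat) := rfl

variable (r : ℕ) [Fact r.Prime] [CharP F r] (hn : 3 ≤ n)
include r hn

theorem commute_emb (hD : Data j B M h μ s) (k : isom (M : Mat₀)) :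
    Commute (descend (cj (emb j hj hD k))) (gamU B) := by
  haveI : Nonempty (Fin n) := ⟨⟨0, by omega⟩⟩
  refine (commute_gamU_iff j hj r hn _ B).2 ⟨1, ?_⟩
  rw [one_smul, show ((emb j hj hD k : GUn) : GL (Fin n) F).1.map σ = _ from ec_map j hj (k : GL (Fin n) F₀),
    emb_val]
  have hBh : ((B : GL (Fin n) F) : Mat) * (h : Mat).map σ = ((μ⁻¹ : Fˣ) : F) • (h : Mat) := by
    conv_rhs => rw [← hD.hB, Matrix.smul_mul, smul_smul, Units.inv_mul, one_smul]
  have hB' : ((B : GL (Fin n) F) : Mat) =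
      ((μ⁻¹ : Fˣ) : F) • ((h : Mat) * ((h⁻¹ : GL (Fin n) F) : Mat).map σ) := by
    rw [← Matrix.smul_mul, ← hBh, Matrix.mul_assoc, map_mul_inv, Matrix.mul_one]
  calc _ = (h : Mat) * ((k : GL (Fin n) F₀) : Mat₀).map j *
        (((h⁻¹ : GL (Fin n) F) : Mat) * ((B : GL (Fin n) F) : Mat)) := by simp only [Matrix.mul_assoc]
    _ = ((μ⁻¹ : Fˣ) : F) • ((h : Mat) * ((k : GL (Fin n) F₀) : Mat₀).map j *
          ((h⁻¹ : GL (Fin n) F) : Mat).map σ) := by
        rw [hB', Matrix.mul_smul, ← Matrix.mul_assoc _ (h : Mat), Units.inv_mul, Matrix.one_mul, Matrix.mul_smul]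
    _ = ((B : GL (Fin n) F) : Mat) * (h : Mat).map σ * ((k : GL (Fin n) F₀) : Mat₀).map j *
          ((h⁻¹ : GL (Fin n) F) : Mat).map σ := by rw [hBh, Matrix.smul_mul, Matrix.smul_mul]
    _ = _ := by simp only [Matrix.mul_assoc]

theorem emb_ker (hD : Data j B M h μ s) (k : isom (M : Mat₀))
    (hk : descend (cj (emb j hj hD k)) = (1 : MulAut PSUn)) : k ∈ Subgroup.center _ ∧ k * k = 1 := by
  obtain ⟨c, hc⟩ := (descend_cj_eq_one r hn _).1 hk
  haveI : Nonempty (Fin n) := ⟨⟨0, by omega⟩⟩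
  have hK : ((k : GL (Fin n) F₀) : Mat₀).map j = ((c : Fˣ) : F) • 1 := by
    have e := congrArg (fun x : GUn => ((h⁻¹ : GL (Fin n) F) : Mat) * (x : GL (Fin n) F).1 * (h : Mat)) hc
    simp only [emb_val, scalU_coe, Matrix.mul_smul, Matrix.smul_mul, Matrix.mul_one, Units.inv_mul] at e
    rwa [← Matrix.mul_assoc, ← Matrix.mul_assoc, Units.inv_mul, Matrix.one_mul, Matrix.mul_assoc, Units.inv_mul,
      Matrix.mul_one] at e
  let i0 : Fin n := ⟨0, by omega⟩
  set a := ((k : GL (Fin n) F₀) : Mat₀) i0 i0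
  have hka : ((k : GL (Fin n) F₀) : Mat₀) = a • 1 := by
    ext x y
    apply j.injective
    have e1 := congrFun (congrFun hK x) y
    have e2 := congrFun (congrFun hK i0) i0
    rw [Matrix.map_apply, Matrix.smul_apply, Matrix.one_apply, smul_eq_mul] at e1 e2
    rw [if_pos rfl, mul_one] at e2
    rw [e1, Matrix.smul_apply, Matrix.one_apply, smul_eq_mul, map_mul, e2]
    split_ifs <;> simp
  refine ⟨Subgroup.mem_center_iff.2 fun x => Subtype.ext (Units.ext ?_), Subtype.ext (Units.ext ?_)⟩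
  · show ((x : GL (Fin n) F₀) : Mat₀) * ((k : GL (Fin n) F₀) : Mat₀) =
      ((k : GL (Fin n) F₀) : Mat₀) * ((x : GL (Fin n) F₀) : Mat₀)
    rw [hka, Matrix.mul_smul, Matrix.smul_mul, Matrix.one_mul, Matrix.mul_one]
  · have hi := mem_isom.1 k.2
    rw [hka, Matrix.transpose_smul, Matrix.transpose_one, Matrix.smul_mul, Matrix.one_mul, Matrix.smul_mul,
      Matrix.mul_smul, Matrix.mul_one, smul_smul] at hi
    have ha : a * a = 1 := by
      by_contra hne
      have h0 : (a * a - 1) • (M : Mat₀) = 0 := by rw [sub_smul, one_smul, hi, sub_self]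
      rcases smul_eq_zero.1 h0 with e | e
      · exact hne (sub_eq_zero.1 e)
      · exact M.ne_zero e
    show ((k : GL (Fin n) F₀) : Mat₀) * ((k : GL (Fin n) F₀) : Mat₀) = 1
    rw [hka, Matrix.smul_mul, Matrix.mul_smul, Matrix.one_mul, smul_smul, ha, one_smul]

theorem exists_lift (hD : Data j B M h μ s) (k : PSUn) (hk : gamU B k = k) :
    ∃ g : isom (M : Mat₀), descend (cj (emb j hj hD g)) = MulAut.conj (k * k) := by
  haveI : Nonempty (Fin n) := ⟨⟨0, by omega⟩⟩
  obtain ⟨t, rfl⟩ := proj_surjective k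
  have hc := commute_conj hk
  rw [← descend_conj, ← cj_suToGU] at hc
  obtain ⟨k₀, b, c₀, hu, hsim, hnorm⟩ := self_data (j := j) hj r hn hD.hB hD.hC hc
  set K : GL (Fin n) F₀ := k₀ * k₀ * Matrix.GeneralLinearGroup.scalar (Fin n) c₀⁻¹
  have hKval : (K : Mat₀) = ((c₀⁻¹ : F₀ˣ) : F₀) • ((k₀ : Mat₀) * (k₀ : Mat₀)) := by
    show ((k₀ * k₀ * Matrix.GeneralLinearGroup.scalar (Fin n) c₀⁻¹ : GL (Fin n) F₀) : Mat₀) = _
    rw [Units.val_mul, Units.val_mul, AutPSL.scalar_coe, Matrix.mul_smul, Matrix.mul_one]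
  have hK : K ∈ isom (M : Mat₀) := by
    rw [mem_isom, hKval, Matrix.transpose_smul, Matrix.smul_mul, Matrix.smul_mul, Matrix.mul_smul, smul_smul,
      Matrix.transpose_mul, show (k₀ : Mat₀)ᵀ * (k₀ : Mat₀)ᵀ * (M : Mat₀) * ((k₀ : Mat₀) * (k₀ : Mat₀)) =
        (k₀ : Mat₀)ᵀ * ((k₀ : Mat₀)ᵀ * (M : Mat₀) * (k₀ : Mat₀)) * (k₀ : Mat₀) by noncomm_ring, hsim,
      Matrix.mul_smul, Matrix.smul_mul, hsim, smul_smul, smul_smul]
    convert one_smul F₀ (M : Mat₀) using 2
    rw [Units.val_inv_eq_inv_val]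
    field_simp [c₀.ne_zero]
  refine ⟨⟨K, hK⟩, ?_⟩
  let y : Fˣ := (b * b * Units.map j.toMonoidHom c₀)⁻¹
  have hy : y ∈ normOne (F := F) (q := q) := by
    refine inv_mem (normOne_of _ ?_)
    have hcfix : σ (j (c₀ : F₀)) = j (c₀ : F₀) := (hj _).2 ⟨_, rfl⟩
    simp only [Units.val_mul, Units.coe_map, RingHom.toMonoidHom_eq_coe, MonoidHom.coe_coe, map_mul, hcfix]
    linear_combination ((b : F) * σ (b : F) * j (c₀ : F₀) + 1) * hnorm
  have he : emb j hj hD ⟨K, hK⟩ = suToGU t * suToGU t * scalU (by omega) ⟨y, hy⟩ := by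
    refine Subtype.ext (Units.ext ?_)
    have hu' : ((t : Matrix.SpecialLinearGroup (Fin n) F) : Mat) =
        (b : F) • ((h : Mat) * (k₀ : Mat₀).map j * ((h⁻¹ : GL (Fin n) F) : Mat)) := by
      rw [← Matrix.smul_mul, ← hu, Matrix.mul_assoc, Units.mul_inv, Matrix.mul_one, suToGU_coe]
    rw [emb_val, hKval, Subgroup.coe_mul, Subgroup.coe_mul, Units.val_mul, Units.val_mul, suToGU_coe, scalU_coe,
      hu', Matrix.map_smul' _ _ _ (map_mul j), Matrix.map_mul]
    simp only [Matrix.mul_smul, Matrix.smul_mul, smul_smul, Matrix.mul_one]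
    congr 1
    · simp only [y, Units.val_inv_eq_inv_val, Units.val_mul, Units.coe_map, RingHom.toMonoidHom_eq_coe,
        MonoidHom.coe_coe, map_inv₀]
      have := b.ne_zero
      have : j (c₀ : F₀) ≠ 0 := (map_ne_zero j).2 c₀.ne_zero
      field_simp
    · simp only [Matrix.mul_assoc]
      rw [← Matrix.mul_assoc ((h⁻¹ : GL (Fin n) F) : Mat) (h : Mat), Units.inv_mul, Matrix.one_mul]
  show descend (cj (emb j hj hD ⟨K, hK⟩)) = _
  rw [he, map_mul cj, map_mul descend, (descend_cj_eq_one r hn _).2 ⟨_, rfl⟩, mul_one, map_mul cj,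
    map_mul descend, cj_suToGU, descend_conj, ← map_mul]

theorem core_fix (hD : Data j B M h μ s) [Finite F₀]
    (hodd : ∀ N : Subgroup (GL (Fin n) F₀), N ≤ isom (M : Mat₀) → Odd (Nat.card N) →
      (∀ w ∈ isom (M : Mat₀), ∀ g ∈ N, w * g * w⁻¹ ∈ N) → N = ⊥) :
    Cfsg.pPrimeCore 2 ↥(Fix (gamU B : MulAut PSUn)) = ⊥ := by
  haveI := finite_PSU (F := F) (q := q) (n := n)
  let π : isom (M : Mat₀) →* MulAut PSUn :=
    ((descend (F := F) (q := q) (n := n)).comp (cj (F := F) (q := q) (n := n))).comp (emb j hj hD)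
  refine core_fix_of_lift (gamU B : MulAut PSUn) (conj_injective (F := F) (q := q) r hn) π
    (fun g => commute_emb j hj r hn hD g) (fun g hg => emb_ker j hj r hn hD g hg)
    (fun k hk => exists_lift j hj r hn hD k hk) fun N hN hoddN => ?_
  have h1 := hodd (N.map (isom (M : Mat₀)).subtype) (Subgroup.map_subtype_le _)
    (by rwa [Subgroup.card_map_of_injective (isom (M : Mat₀)).subtype_injective]) (by
      rintro w hw _ ⟨g, hg, rfl⟩
      refine ⟨⟨w, hw⟩ * g * ⟨w, hw⟩⁻¹, hN.conj_mem g hg _, ?_⟩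
      simp only [map_mul, map_inv, Subgroup.subtype_apply])
  rwa [Subgroup.map_eq_bot_iff_of_injective N (f := (isom (M : Mat₀)).subtype) (isom (M : Mat₀)).subtype_injective] at h1

set_option maxHeartbeats 1000000 in
theorem stab (hD : Data j B M h μ s) [Finite F₀] (hr2 : r ≠ 2) (h32 : ¬ (n = 3 ∧ q = 2))
    (hM : (∃ D, (M : Mat₀) = Matrix.diagonal D) ∨ (M : Mat₀)ᵀ = -(M : Mat₀))
    (d : MulAut PSUn) (hd : ∀ k, gamU B k = k → d k = k) : d ^ 2 ^ 2 = 1 := by
  classical
  have hn2 : 2 ≤ n := by omega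
  haveI : Nonempty (Fin n) := ⟨⟨0, by omega⟩⟩
  haveI : CharP F₀ r := (j.charP_iff j.injective r).2 inferInstance
  have h2F : (2 : F) ≠ 0 := Ring.two_ne_zero (by rw [ringChar.eq F r]; exact hr2)
  have h2 : (2 : F₀) ≠ 0 := Ring.two_ne_zero (by rw [ringChar.eq F₀ r]; exact hr2)
  obtain ⟨g₁, τ₁, rfl⟩ := exists_normal_form r hn h32 d
  set e : MulAut SUn := cj g₁ * fld τ₁
  set g := g₁ * guMap τ₁ g₁
  set τ := τ₁.trans τ₁
  have hee : e * e = cj g * fld τ := by
    show cj g₁ * fld τ₁ * (cj g₁ * fld τ₁) = _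
    rw [mul_assoc, ← mul_assoc (fld τ₁), fld_mul_cj, mul_assoc, fld_mul, ← mul_assoc, ← map_mul]
  have hfixU : ∀ k : isom (M : Mat₀), ∀ t : SUn, suToGU t = emb j hj hD k → gamU B (proj n F q t) = proj n F q t := by
    intro k t ht
    refine fix_of_commute (conj_injective r hn) ?_
    rw [← descend_conj, ← cj_suToGU, ht]
    exact commute_emb j hj r hn hD k
  have hsmul : ∀ t : SUn, gamU B (proj n F q t) = proj n F q t → ∃ z ∈ Subgroup.center SUn, e t = z * t := by
    intro t ht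
    refine ⟨e t * t⁻¹, ?_, by group⟩
    rw [← proj_eq_one_iff, map_mul, map_inv, ← descend_proj, show descend e = stdA g₁ τ₁ from rfl, hd _ ht,
      mul_inv_cancel]
  have hinv : ∀ t : SUn, gamU B (proj n F q t) = proj n F q t → t * t = 1 → (e * e) t = t := by
    intro t ht ht2
    obtain ⟨z, hz, he⟩ := hsmul t ht
    have hzc := Subgroup.mem_center_iff.1 hz
    have hz2 : z * z = 1 := by
      have h := congrArg e ht2
      rw [map_mul, map_one, he, mul_assoc, ← mul_assoc t, hzc t, mul_assoc z t, ht2, mul_one] at h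
      exact h
    have hsign : ∀ w : SUn, w ∈ Subgroup.center SUn → w * w = 1 → w ≠ 1 → ∀ v, app w v = (-1 : F) • v := by
      intro w hw hw2 hw1
      obtain ⟨c, hc⟩ := scalar_of_mem_center (q := q) hn2 hw
      have hcc : c * c = 1 := by
        have e1 := congrFun (congrArg (fun x : SUn => app x (Pi.single ⟨0, by omega⟩ 1)) hw2) ⟨0, by omega⟩
        simp only [app_mul, hc, app_one, Pi.smul_apply, smul_eq_mul, Pi.single_eq_same, mul_one] at e1
        exact e1
      rcases mul_self_eq_one_iff.1 hcc with rfl | rfl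
      · exact absurd (su_ext fun v => by
          show app w v = app 1 v
          rw [hc, one_smul, app_one]) hw1
      · exact hc
    have hez : e z = z := by
      have h1 : e z ∈ Subgroup.center SUn := Subgroup.mem_center_iff.2 fun t => by
        obtain ⟨t, rfl⟩ := e.surjective t
        rw [← map_mul, ← map_mul, hzc]
      by_cases hz1 : z = 1
      · rw [hz1, map_one]
      · refine su_ext fun v => ?_
        show app (e z) v = app z v
        rw [hsign z hz hz2 hz1, hsign (e z) h1 (by rw [← map_mul, hz2, map_one])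
          (fun h => hz1 (e.map_eq_one_iff.1 h))]
    rw [MulAut.mul_apply, he, map_mul, hez, he, ← mul_assoc, hz2, one_mul]
  -- transport to the subfield
  have hval : ∀ t : SUn, (((cj g * fld τ : MulAut SUn) t : SUn) : Matrix.SpecialLinearGroup (Fin n) F).1 *
      ((g : GL (Fin n) F) : Mat) = ((g : GL (Fin n) F) : Mat) * ((t : Matrix.SpecialLinearGroup (Fin n) F) : Mat).map τ := by
    intro t
    rw [MulAut.mul_apply, cj_coe, fld_coe, Matrix.mul_assoc, Units.inv_mul, Matrix.mul_one]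
  set g' : GL (Fin n) F := h⁻¹ * (g : GL (Fin n) F) * glMap τ h with hg'
  have htr : ∀ (k : Matrix.SpecialLinearGroup (Fin n) F₀) (c : F) (t : SUn),
      ((t : Matrix.SpecialLinearGroup (Fin n) F) : Mat) =
        (h : Mat) * (k : Mat₀).map j * ((h⁻¹ : GL (Fin n) F) : Mat) →
      ((((cj g * fld τ : MulAut SUn) t : SUn) : Matrix.SpecialLinearGroup (Fin n) F).1 =
        c • ((t : Matrix.SpecialLinearGroup (Fin n) F) : Mat)) →
      (g' : Mat) * ((k : Mat₀).map j).map τ = c • ((k : Mat₀).map j * (g' : Mat)) := by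
    intro k c t ht hc
    have h1 := hval t
    rw [hc, ht, Matrix.map_mul, Matrix.map_mul] at h1
    have h2 := congrArg (fun X : Mat => ((h⁻¹ : GL (Fin n) F) : Mat) * X * (h : Mat).map τ) h1
    have hhτ : ((h⁻¹ : GL (Fin n) F) : Mat).map τ * (h : Mat).map τ = 1 := by
      rw [← Matrix.map_mul, Units.inv_mul, Matrix.map_one _ (map_zero τ) (map_one τ)]
    simp only [Matrix.smul_mul, Matrix.mul_smul, Matrix.mul_assoc, hhτ, Matrix.mul_one] at h2
    rw [← Matrix.mul_assoc ((h⁻¹ : GL (Fin n) F) : Mat) (h : Mat), Units.inv_mul, Matrix.one_mul] at h2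
    rw [hg', Units.val_mul, Units.val_mul, glMap_coe]
    simp only [Matrix.mul_assoc]
    exact h2.symm
  have hmk : ∀ k : Matrix.SpecialLinearGroup (Fin n) F₀, Matrix.SpecialLinearGroup.toGL k ∈ isom (M : Mat₀) →
      ∃ t : SUn, gamU B (proj n F q t) = proj n F q t ∧ ((t : Matrix.SpecialLinearGroup (Fin n) F) : Mat) =
        (h : Mat) * (k : Mat₀).map j * ((h⁻¹ : GL (Fin n) F) : Mat) := by
    intro k hk
    have hdet : ((h : Mat) * (k : Mat₀).map j * ((h⁻¹ : GL (Fin n) F) : Mat)).det = 1 := by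
      rw [Matrix.det_mul, Matrix.det_mul, ← RingHom.mapMatrix_apply, ← RingHom.map_det, k.2, map_one, mul_one,
        ← Matrix.det_mul, Units.mul_inv, Matrix.det_one]
    have hmem : (⟨_, hdet⟩ : Matrix.SpecialLinearGroup (Fin n) F) ∈ Cfsg.SU n F q := (emb j hj hD ⟨_, hk⟩).2
    exact ⟨⟨_, hmem⟩, hfixU ⟨_, hk⟩ _ (Subtype.ext (Units.ext rfl)), rfl⟩
  have hpow : ∀ k : Matrix.SpecialLinearGroup (Fin n) F₀, ∀ t : SUn,
      ((t : Matrix.SpecialLinearGroup (Fin n) F) : Mat) =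
        (h : Mat) * (k : Mat₀).map j * ((h⁻¹ : GL (Fin n) F) : Mat) →
      ∀ i, k ^ i = 1 → t ^ i = 1 := by
    intro k t ht i hi
    have key : ∀ i, (((t ^ i : SUn) : Matrix.SpecialLinearGroup (Fin n) F) : Mat) =
        (h : Mat) * ((k ^ i : Matrix.SpecialLinearGroup (Fin n) F₀) : Mat₀).map j *
          ((h⁻¹ : GL (Fin n) F) : Mat) := by
      intro i
      induction i with
      | zero => simp [Matrix.map_one j (map_zero j) (map_one j)]
      | succ i ih =>
        rw [pow_succ, pow_succ, Subgroup.coe_mul, Matrix.SpecialLinearGroup.coe_mul,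
          Matrix.SpecialLinearGroup.coe_mul, ih, ht, Matrix.map_mul]
        simp only [Matrix.mul_assoc]
        rw [← Matrix.mul_assoc ((h⁻¹ : GL (Fin n) F) : Mat) (h : Mat), Units.inv_mul, Matrix.one_mul]
    refine Subtype.ext (Subtype.ext ?_)
    rw [key, hi]
    simp [Matrix.map_one j (map_zero j) (map_one j)]
  have hfix1 : ∀ k : Matrix.SpecialLinearGroup (Fin n) F₀, Matrix.SpecialLinearGroup.toGL k ∈ isom (M : Mat₀) →
      ∃ c : F, (g' : Mat) * ((k : Mat₀).map j).map τ = c • ((k : Mat₀).map j * (g' : Mat)) := by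
    intro k hk
    obtain ⟨t, htfix, ht⟩ := hmk k hk
    obtain ⟨z, hz, he⟩ := hsmul t htfix
    have hzc := Subgroup.mem_center_iff.1 hz
    have h1 : e z ∈ Subgroup.center SUn := Subgroup.mem_center_iff.2 fun t => by
      obtain ⟨t, rfl⟩ := e.surjective t
      rw [← map_mul, ← map_mul, hzc]
    have h2' : (cj g * fld τ : MulAut SUn) t = (e z * z) * t := by
      rw [← hee, MulAut.mul_apply, he, map_mul, he, mul_assoc]
    obtain ⟨c, hc⟩ := scalar_of_mem_center (q := q) hn2 (mul_mem h1 hz)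
    refine ⟨c, htr k c t ht ?_⟩
    rw [h2']
    refine Matrix.toLin'.injective (LinearMap.ext fun v => ?_)
    rw [Matrix.toLin'_apply, Matrix.toLin'_apply, Matrix.smul_mulVec]
    exact (app_mul (e z * z) t v).trans (hc _)
  have hfix2 : ∀ k : Matrix.SpecialLinearGroup (Fin n) F₀, Matrix.SpecialLinearGroup.toGL k ∈ isom (M : Mat₀) →
      k * k = 1 ∨ k ^ r = 1 → (g' : Mat) * ((k : Mat₀).map j).map τ = (k : Mat₀).map j * (g' : Mat) := by
    intro k hk hord
    obtain ⟨t, htfix, ht⟩ := hmk k hk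
    have hfix : (cj g * fld τ : MulAut SUn) t = t := by
      rcases hord with h2k | hrk
      · rw [← hee]
        refine hinv t htfix ?_
        have := hpow k t ht 2 (by rw [sq]; exact h2k)
        rwa [sq] at this
      · have htr1 : t ^ r ^ 1 = 1 := by rw [pow_one]; exact hpow k t ht r hrk
        refine eq_of_proj_eq r hn2 (k := 1) (l := 1) ?_ htr1 ?_
        · rw [← map_pow, htr1, map_one]
        · rw [← hee, ← descend_proj, map_mul, MulAut.mul_apply, show descend e = stdA g₁ τ₁ from rfl,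
            hd _ htfix, hd _ htfix]
    have := htr k 1 t ht (by rw [hfix, one_smul])
    rwa [one_smul] at this
  have hres : (∃ c : F, (g' : Mat) = c • 1) ∧ ∀ a, τ (j a) = j a := by
    rcases hM with ⟨D, hM⟩ | hM
    · exact Semi.scalar_of_diag j r hn h2 M D hM g' τ hfix1 fun k hk h => hfix2 k hk (Or.inl h)
    · exact Semi.scalar_of_skew j r hn h2 M hM g' τ fun k hk h => hfix2 k hk (Or.inr h)
  obtain ⟨⟨c, hc⟩, hτ⟩ := hres
  have hττ : τ.trans τ = RingEquiv.refl F := by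
    have := PSL.pow_eq_one_of_fix σ τ (by rw [orderOf_qb]; exact two_pos) fun a ha => by
      obtain ⟨b, rfl⟩ := (hj a).1 ha
      exact hτ b
    rw [orderOf_qb, pow_two] at this
    exact this
  show stdA g₁ τ₁ ^ (2 ^ 2) = 1
  rw [show (2 : ℕ) ^ 2 = 2 * 2 from rfl, pow_mul, sq, sq, stdA_mul, stdA_mul, hττ, stdA_eq_mul, stdF_refl, mul_one,
    descend_cj_eq_one r hn]
  have hg : ((g : GL (Fin n) F) : Mat) = c • ((h : Mat) * ((h⁻¹ : GL (Fin n) F) : Mat).map τ) := by
    have h1 : (g : GL (Fin n) F) = h * g' * (glMap τ h)⁻¹ := by rw [hg']; group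
    rw [h1, Units.val_mul, Units.val_mul, ← map_inv, glMap_coe, hc, Matrix.mul_smul, Matrix.mul_one,
      Matrix.smul_mul]
  have hscal : ((g * guMap τ g : GUn) : GL (Fin n) F).1 = (c * τ c) • (1 : Mat) := by
    rw [Subgroup.coe_mul, Units.val_mul]
    show ((g : GL (Fin n) F) : Mat) * ((g : GL (Fin n) F) : Mat).map τ = _
    rw [hg, Matrix.map_smul' _ _ _ (map_mul τ), Matrix.map_mul, Matrix.smul_mul, Matrix.mul_smul, smul_smul]
    congr 1
    have e : (((h⁻¹ : GL (Fin n) F) : Mat).map τ).map τ = ((h⁻¹ : GL (Fin n) F) : Mat) := by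
      ext a b
      exact RingEquiv.congr_fun hττ _
    rw [e, Matrix.mul_assoc, ← Matrix.mul_assoc (((h⁻¹ : GL (Fin n) F) : Mat).map τ), ← Matrix.map_mul,
      Units.inv_mul, Matrix.map_one _ (map_zero τ) (map_one τ), Matrix.one_mul, Units.mul_inv]
  have hne : c * τ c ≠ 0 := fun e => by
    rw [e, zero_smul] at hscal
    exact ((g * guMap τ g : GUn) : GL (Fin n) F).ne_zero hscal
  have hmem : (Units.mk0 _ hne) ^ (q + 1) = 1 := by
    refine (mem_scalars_GU_iff (n := n) (by omega) (Units.mk0 _ hne)).1 ?_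
    have : (Matrix.GeneralLinearGroup.scalar (Fin n) (Units.mk0 _ hne) : GL (Fin n) F) =
        ((g * guMap τ g : GUn) : GL (Fin n) F) :=
      Units.ext (by rw [AutPSL.scalar_coe, hscal]; rfl)
    rw [this]
    exact (g * guMap τ g).2
  exact ⟨⟨_, hmem⟩, Subtype.ext (Units.ext (by rw [scalU_coe]; exact hscal))⟩

end Cfsg.Agent.LocalBal.PSU

namespace Cfsg.Agent.LocalBal.PSU

open Matrix Cfsg.Agent.AutPSU
open Cfsg.Agent.LocalBal.PSL (odd_skew odd_symm)

universe w

variable {F : Type w} [Field F] [Fintype F] {q : ℕ} [hQ : QField F q] {n : ℕ}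
include hQ

theorem exists_noncommute (r : ℕ) [Fact r.Prime] [CharP F r] (hn : 3 ≤ n) :
    ∃ a b : Cfsg.PSU n F q, a * b ≠ b * a := by
  obtain ⟨e, f, hee, hff, hef⟩ := exists_hyperbolic_pair (F := F) (q := q) (n := n) (by omega)
  have he : e ≠ 0 := fun h => one_ne_zero (α := F) (by rw [← hef, h, H_zero_left])
  have hf : f ≠ 0 := fun h => one_ne_zero (α := F) (by rw [← hef, h, H_zero_right])
  obtain ⟨t, ht, hT⟩ := exists_isT hee
  obtain ⟨t', ht', hT'⟩ := exists_isT hff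
  exact ⟨_, _, fun h => one_ne_zero (α := F) (hef.symm.trans
    ((proj_commute_iff r (by omega) (h := hT) (h' := hT') he hf ht ht').1 h))⟩

/-- The core is trivial and the fixed points have even order. -/
theorem graph_core (r : ℕ) [Fact r.Prime] [CharP F r] (hn : 3 ≤ n) (h32 : ¬ (n = 3 ∧ q = 2)) (hr2 : r ≠ 2)
    (γ : MulAut (Cfsg.PSU n F q)) (hγ : Cfsg.IsGraphAutClassPSU γ) (hord : orderOf γ = 2)
    (A : Subgroup (MulAut (Cfsg.PSU n F q))) (hinn : ∀ k, MulAut.conj k ∈ A) :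
    Cfsg.pPrimeCore 2 ↥(A ⊓ Subgroup.centralizer {γ}) = ⊥ ∧ ¬ Nat.Coprime 2 (Nat.card ↥(Fix γ)) := by
  classical
  haveI : Fact (Nat.Prime 2) := ⟨Nat.prime_two⟩
  haveI := finite_PSU (F := F) (q := q) (n := n)
  have hinj := conj_injective (F := F) (q := q) r hn
  let F₀ : Type w := ↥((qb (F := F) q : F →+* F).eqLocusField (RingHom.id F))
  letI : Field F₀ := inferInstanceAs (Field ↥((qb (F := F) q : F →+* F).eqLocusField (RingHom.id F)))
  let j : F₀ →+* F := ((qb (F := F) q : F →+* F).eqLocusField (RingHom.id F)).subtype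
  have hj : ∀ a, qb (F := F) q a = a ↔ a ∈ j.range := fun a => by
    constructor
    · intro h; exact ⟨⟨a, h⟩, rfl⟩
    · rintro ⟨b, rfl⟩; exact b.2
  haveI : Finite F₀ := Finite.of_injective j j.injective
  haveI : CharP F₀ r := (j.charP_iff j.injective r).2 inferInstance
  haveI : Nonempty (Fin n) := ⟨⟨0, by omega⟩⟩
  obtain ⟨B, rfl, hB⟩ := exists_gamU_rep r hn hγ hord
  obtain ⟨ε, hε, hBε⟩ : ∃ ε : F₀, ε * ε = 1 ∧
      ((B : GL (Fin n) F) : Matrix (Fin n) (Fin n) F)ᵀ = j ε • ((B : GL (Fin n) F) : Matrix (Fin n) (Fin n) F) := by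
    rcases hB with h | h
    · exact ⟨1, one_mul 1, by rw [map_one, one_smul]; exact h⟩
    · exact ⟨-1, by ring, by rw [map_neg, map_one, neg_smul, one_smul]; exact h⟩
  obtain ⟨M, ⟨h, μ, s, hBh, hC⟩, hMε⟩ := exists_desc j hj B hε hBε
  have hD : Data j B M h μ s := ⟨hBh, hC⟩
  suffices key : Cfsg.pPrimeCore 2 ↥(Fix (gamU B : MulAut (Cfsg.PSU n F q))) = ⊥ ∧
      ∀ d : MulAut (Cfsg.PSU n F q), (∀ k, gamU B k = k → d k = k) → d ^ 2 ^ 2 = 1 by
    refine ⟨core_eq_bot_pow A hinn _ hinj 2 2 key.1 fun d _ hd => key.2 d hd,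
      not_coprime_fix _ key.1 (fix_ne_bot _ ?_ (exists_noncommute r hn))⟩
    rw [← sq, ← hord, pow_orderOf_eq_one]
  rcases mul_self_eq_one_iff.1 hε with rfl | rfl
  swap
  · rw [neg_smul, one_smul] at hMε
    exact ⟨core_fix j hj r hn hD (odd_skew r hn M hr2 hMε), stab j hj r hn hD hr2 h32 (Or.inr hMε)⟩
  rw [one_smul] at hMε
  have h2 : (2 : F₀) ≠ 0 := Ring.two_ne_zero (by rw [ringChar.eq F₀ r]; exact hr2)
  -- diagonalise
  haveI : Invertible (2 : F₀) := invertibleOfNonzero h2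
  let f : LinearMap.BilinForm F₀ (Fin n → F₀) := Matrix.toBilin' (M : Matrix (Fin n) (Fin n) F₀)
  have hf : LinearMap.IsSymm f := ⟨fun u v => by
    simp only [f, Matrix.toBilin'_apply', RingHom.id_apply]
    rw [Matrix.dotProduct_mulVec, ← Matrix.mulVec_transpose, hMε, dotProduct_comm]⟩
  obtain ⟨b, hb⟩ := LinearMap.BilinForm.exists_orthogonal_basis hf
  let b' := b.reindex (finCongr (Module.finrank_fin_fun F₀))
  let P : GL (Fin n) F₀ := Units.mk ((Pi.basisFun F₀ (Fin n)).toMatrix b') (b'.toMatrix (Pi.basisFun F₀ (Fin n)))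
    ((Pi.basisFun F₀ (Fin n)).toMatrix_mul_toMatrix_flip b') (b'.toMatrix_mul_toMatrix_flip _)
  have hcol : ∀ i, (P : Matrix (Fin n) (Fin n) F₀) *ᵥ Pi.single i 1 = b' i := fun i => by
    rw [Matrix.mulVec_single_one]
    funext a
    rfl
  let D : Fin n → F₀ := fun i => b' i ⬝ᵥ ((M : Matrix (Fin n) (Fin n) F₀) *ᵥ b' i)
  have hPMP : (P : Matrix (Fin n) (Fin n) F₀)ᵀ * (M : Matrix (Fin n) (Fin n) F₀) * (P : Matrix (Fin n) (Fin n) F₀) =
      Matrix.diagonal D := by
    refine AutPSL.ext_form fun u v => ?_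
    rw [← AutPSL.form_mulVec]
    have hbl : ∀ i k, b' i ⬝ᵥ ((M : Matrix (Fin n) (Fin n) F₀) *ᵥ b' k) = if i = k then D i else 0 := fun i k => by
      split_ifs with h
      · subst h; rfl
      · have := hb (show (finCongr (Module.finrank_fin_fun F₀)).symm i ≠ (finCongr (Module.finrank_fin_fun F₀)).symm k
          by simpa using h)
        simpa [f, LinearMap.IsOrthoᵢ, Function.onFun, Matrix.toBilin'_apply', b'] using this
    have hexp : ∀ u : Fin n → F₀, (P : Matrix (Fin n) (Fin n) F₀) *ᵥ u = ∑ i, u i • b' i := fun u => by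
      conv_lhs => rw [pi_eq_sum_univ' u]
      simp only [Matrix.mulVec_sum, Matrix.mulVec_smul, hcol]
    rw [hexp u, hexp v]
    simp only [sum_dotProduct, Matrix.mulVec_sum, dotProduct_sum, smul_dotProduct, Matrix.mulVec_smul,
      dotProduct_smul, hbl, smul_eq_mul, mul_ite, mul_zero, Finset.sum_ite_eq, Finset.mem_univ, if_true]
    simp [dotProduct, Matrix.mulVec_diagonal]
    exact Finset.sum_congr rfl fun i _ => by ring
  set M' := AutPSL.glItp P⁻¹ * M * P with hM'def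
  have hM'v : (M' : Matrix (Fin n) (Fin n) F₀) = Matrix.diagonal D := by
    rw [hM'def, Units.val_mul, Units.val_mul, AutPSL.glItp_val, inv_inv, hPMP]
  set h' := h * Matrix.GeneralLinearGroup.map j P with hh'
  have hh'v : (h' : Matrix (Fin n) (Fin n) F) =
      (h : Matrix (Fin n) (Fin n) F) * (P : Matrix (Fin n) (Fin n) F₀).map j := rfl
  have hD' : Data j B M' h' μ s := by
    refine ⟨?_, ?_⟩
    · rw [hh'v, Matrix.map_mul, smap_j j hj, ← Matrix.mul_assoc, hBh]
    · rw [hh'v, Matrix.map_mul, smap_j j hj, Matrix.transpose_mul, Matrix.mul_assoc,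
        ← Matrix.mul_assoc (h : Matrix (Fin n) (Fin n) F)ᵀ, hC, Matrix.smul_mul, Matrix.mul_smul, hM'v, ← hPMP,
        Matrix.map_mul, Matrix.map_mul, Matrix.transpose_map, Matrix.mul_assoc]
  have hM's : (M' : Matrix (Fin n) (Fin n) F₀)ᵀ = M' := by rw [hM'v, Matrix.diagonal_transpose]
  exact ⟨core_fix j hj r hn hD' (odd_symm r hn M' hr2 hM's), stab j hj r hn hD' hr2 h32 (Or.inl ⟨D, hM'v⟩)⟩

end Cfsg.Agent.LocalBal.PSU
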